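import Mathlib
import Cfsg.Agent.Lib.Held.Emb

/-!
# Fusion of involutions in a group with the involution centraliser of `SL(5, 2)`

Partial actions on codes, the classes of involutions of the centraliser, the two elementary
abelian subgroups of order 64, and the classes that cannot fuse to the central involution.
-/

set_option autoImplicit false
set_option maxRecDepth 100000
set_option Elab.async false

namespace CfsgLib.Held

open CfsgLib.MOrb CfsgLib.CosetEnum CfsgLib.SylTools Subgroup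

theorem beq_false {a b : ℕ} (h : a ≠ b) : Nat.beq a b = false :=
  Bool.eq_false_iff.2 fun e => h ((beq_iff _ _).1 e)

theorem conj_inj {G : Type*} [Group G] {g x y : G} : g * x * g⁻¹ = g * y * g⁻¹ ↔ x = y := by simp

/-- conjugation of a code by a letter; `0` means undefined -/
noncomputable def mv (α β : ℕ → ℕ) (x n : ℕ) : ℕ := frc n fun n =>
  Bool.rec (frc (Nat.shiftRight x 1) fun i =>
    Bool.rec (Bool.rec (cn (lc i) n) (β n) (Nat.beq i 7)) (α n) (Nat.beq i 6)) 0 (Nat.beq n 0)

/-- conjugation of a code by a word -/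
noncomputable def mw (α β : ℕ → ℕ) (w : List ℕ) (n : ℕ) : ℕ :=
  List.rec n (fun x _ ih => mv α β x ih) w

/-- the nowhere defined action -/
def no : ℕ → ℕ := fun _ => 0

def clsT : ℕ := nat_lit 0x9900000000009900990000000000990000000000000000000000000000000000000000000000000000000000000000007777007700004477770000000077440000000000000000000000000000000000000000000000000000000000000000000000000099009900000000009900997700770000770044000000007777774400000000000000000000000000000000880000368800006300000099000000990000000000000000000000000000000000000099000000990000883600008863000000000000000000000000000000000000009900000099880000638800006300000000000000000000000000000000000000990000009900008863000088630000000000000000000000000000000000000099000000990000009900000099000000000000000000000000000000007700007777000044000077770000774400360088008800630063008800880063008800360088006300880063008800630088008800360063008800880063006300770077007700445555555555555521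
def cert : List (ℕ × List ℕ) := [(17043521, []), (17043523, []), (17043525, [10, 4, 8, 2]), (17043527, [6, 10, 4, 8, 2]),
  (17043529, [10, 4]), (17043531, [6, 10, 4]), (17043533, [10, 4, 8]), (17043535, [6, 10, 4, 8]),
  (17043537, []), (17043539, [6]), (17043541, [10, 8, 2]), (17043543, [6, 10, 8, 2]),
  (17043545, [10]), (17043547, [6, 10]), (17043549, [10, 8]), (17043551, [6, 10, 8]),
  (17045569, []), (17045571, [0]), (17045577, [10, 4]), (17045579, [0, 10, 4]),
  (17045585, []), (17045587, [0]), (17045593, [10]), (17045595, [0, 10]),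
  (17051713, [10, 4]), (17051715, [10, 4]), (17051721, [0, 10, 4]), (17051723, [0, 10, 4]),
  (17051729, [0, 10, 4]), (17051731, [0, 10, 4, 6]), (17051737, [10, 4]), (17051739, [10, 4, 6]),
  (17053761, [6, 10, 4]), (17053763, [6, 10, 4]), (17053769, [0, 6, 10, 4]), (17053771, [0, 6, 10, 4]),
  (17053777, [0, 10, 4, 20]), (17053779, [0, 6, 10, 4]), (17053785, [6, 10, 4]), (17053787, [10, 4, 20]),
  (17059905, []), (17059907, []), (17059913, []), (17059915, [20]),
  (17059921, [0]), (17059923, [0]), (17059929, [0]), (17059931, [0, 20]),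
  (17061953, [6]), (17061955, [6]), (17061961, [6]), (17061963, [6, 20]),
  (17061969, [0, 6]), (17061971, [0, 6]), (17061977, [6, 4]), (17061979, [0, 6]),
  (17068097, [10]), (17068099, [10]), (17068105, [10]), (17068107, [20, 10]),
  (17068113, [0, 10]), (17068115, [0, 20, 10]), (17068121, [0, 10]), (17068123, [0, 10]),
  (17070145, [6, 10]), (17070147, [6, 10]), (17070153, [6, 10]), (17070155, [10, 20]),
  (17070161, [0, 10, 20]), (17070163, [0, 6, 10]), (17070169, [0, 6, 10]), (17070171, [0, 6, 10]),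
  (17109057, [8, 2]), (17109059, [0, 8, 2]), (17109061, [10, 4, 8, 2]), (17109063, [0, 10, 4, 8, 2]),
  (17109073, [8, 2]), (17109075, [0, 8, 2]), (17109077, [10, 8, 2]), (17109079, [0, 10, 8, 2]),
  (17111105, [8]), (17111107, [0, 8]), (17111117, [10, 4, 8]), (17111119, [0, 10, 4, 8]),
  (17111121, [8]), (17111123, [0, 8]), (17111133, [10, 8]), (17111135, [0, 10, 8]),
  (17125441, []), (17125443, [16]), (17125457, [0]), (17125459, [0, 16]),
  (17127489, [2]), (17127491, [2, 16]), (17127505, [0, 2]), (17127507, [0, 6]),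
  (17567809, [8, 2]), (17567811, [8, 2]), (17567813, [8, 2]), (17567815, [8, 2, 24]),
  (17567825, [0, 8, 2]), (17567827, [0, 8, 2]), (17567829, [0, 8, 2]), (17567831, [0, 8, 2, 24]),
  (17569857, [2, 8, 2]), (17569859, [2, 8, 2, 0]), (17569873, [0, 2, 8, 2]), (17569875, [0, 6, 8, 2]),
  (17584193, [8]), (17584195, [8]), (17584205, [8]), (17584207, [8, 20]),
  (17584209, [0, 8]), (17584211, [0, 8]), (17584221, [0, 8]), (17584223, [0, 8, 20]),
  (17586241, [2, 8]), (17586243, [2, 16, 8]), (17586257, [0, 2, 8]), (17586259, [0, 6, 8]),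
  (17633345, [6, 8, 2]), (17633347, [6, 8, 2]), (17633349, [6, 8, 2]), (17633351, [6, 8, 2, 24]),
  (17633361, [0, 6, 8, 2]), (17633363, [0, 6, 8, 2]), (17633365, [6, 4, 8, 2]), (17633367, [0, 6, 8, 2]),
  (17635393, [8, 2]), (17635395, [8, 2, 0]), (17635409, [0, 8, 2]), (17635411, [8, 2, 16]),
  (17649729, [8]), (17649731, [16, 8]), (17649745, [0, 8]), (17649747, [8, 16]),
  (17651777, [6, 8]), (17651779, [6, 8]), (17651789, [6, 8]), (17651791, [6, 8, 20]),
  (17651793, [0, 6, 8]), (17651795, [0, 6, 8]), (17651805, [6, 4, 8]), (17651807, [0, 6, 8]),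
  (19140673, [8, 2, 10, 4]), (19140675, [0, 8, 2, 10, 4]), (19140677, [8, 10, 8, 2, 18]), (19140679, [0, 8, 10, 8, 2, 18]),
  (19140681, [8, 2, 10, 4]), (19140683, [0, 8, 2, 10, 4]), (19140685, [8, 10, 8, 18]), (19140687, [0, 8, 10, 8, 18]),
  (19142721, [8, 10, 4]), (19142723, [0, 8, 10, 4]), (19142729, [8, 10, 4]), (19142731, [0, 8, 10, 4]),
  (19142741, [8, 10, 8, 2]), (19142743, [0, 8, 10, 8, 2]), (19142749, [8, 10, 8]), (19142751, [0, 8, 10, 8]),
  (19148865, [10, 4]), (19148867, [10, 4, 22]), (19148873, [0, 10, 4]), (19148875, [0, 10, 4, 22]),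
  (19150913, [2, 10, 4]), (19150915, [2, 10, 4, 22]), (19150921, [0, 2, 10, 4]), (19150923, [0, 6, 10, 4]),
  (19206209, [8, 2, 10]), (19206211, [0, 8, 2, 10]), (19206213, [10, 8, 10, 18]), (19206215, [0, 10, 8, 10, 18]),
  (19206233, [8, 2, 10]), (19206235, [0, 8, 2, 10]), (19206237, [8, 2, 10, 8]), (19206239, [0, 8, 2, 10, 8]),
  (19208257, [8, 10]), (19208259, [0, 8, 10]), (19208269, [8, 10, 4, 8]), (19208271, [0, 8, 10, 4, 8]),
  (19208277, [10, 8, 10]), (19208279, [0, 10, 8, 10]), (19208281, [8, 10]), (19208283, [0, 8, 10]),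
  (19230785, [10]), (19230787, [10, 16]), (19230809, [0, 10]), (19230811, [0, 10, 16]),
  (19232833, [2, 10]), (19232835, [2, 10, 16]), (19232857, [0, 2, 10]), (19232859, [0, 6, 10])]
def invT : List ℕ := [17043521, 17043523, 17043525, 17043527, 17043529, 17043531, 17043533, 17043535, 17043537,
  17043539, 17043541, 17043543, 17043545, 17043547, 17043549, 17043551, 17045569, 17045571,
  17045577, 17045579, 17045585, 17045587, 17045593, 17045595, 17051713, 17051715, 17051721,
  17051723, 17051729, 17051731, 17051737, 17051739, 17053761, 17053763, 17053769, 17053771,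
  17053777, 17053779, 17053785, 17053787, 17059905, 17059907, 17059913, 17059915, 17059921,
  17059923, 17059929, 17059931, 17061953, 17061955, 17061961, 17061963, 17061969, 17061971,
  17061977, 17061979, 17068097, 17068099, 17068105, 17068107, 17068113, 17068115, 17068121,
  17068123, 17070145, 17070147, 17070153, 17070155, 17070161, 17070163, 17070169, 17070171,
  17109057, 17109059, 17109061, 17109063, 17109073, 17109075, 17109077, 17109079, 17111105,
  17111107, 17111117, 17111119, 17111121, 17111123, 17111133, 17111135, 17125441, 17125443,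
  17125457, 17125459, 17127489, 17127491, 17127505, 17127507, 17567809, 17567811, 17567813,
  17567815, 17567825, 17567827, 17567829, 17567831, 17569857, 17569859, 17569873, 17569875,
  17584193, 17584195, 17584205, 17584207, 17584209, 17584211, 17584221, 17584223, 17586241,
  17586243, 17586257, 17586259, 17633345, 17633347, 17633349, 17633351, 17633361, 17633363,
  17633365, 17633367, 17635393, 17635395, 17635409, 17635411, 17649729, 17649731, 17649745,
  17649747, 17651777, 17651779, 17651789, 17651791, 17651793, 17651795, 17651805, 17651807,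
  19140673, 19140675, 19140677, 19140679, 19140681, 19140683, 19140685, 19140687, 19142721,
  19142723, 19142729, 19142731, 19142741, 19142743, 19142749, 19142751, 19148865, 19148867,
  19148873, 19148875, 19150913, 19150915, 19150921, 19150923, 19206209, 19206211, 19206213,
  19206215, 19206233, 19206235, 19206237, 19206239, 19208257, 19208259, 19208269, 19208271,
  19208277, 19208279, 19208281, 19208283, 19230785, 19230787, 19230809, 19230811, 19232833,
  19232835, 19232857, 19232859]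

/-- the class number of an element of the Sylow subgroup -/
noncomputable def cls (n : ℕ) : ℕ := frc n fun n => Nat.land (Nat.shiftRight clsT (Nat.mul 4
  (Nat.lor (Nat.lor (Nat.lor (Nat.land (Nat.shiftRight n 1) 15) (Nat.land (Nat.shiftRight n 7) 16))
    (Nat.lor (Nat.land (Nat.shiftRight n 8) 96) (Nat.land (Nat.shiftRight n 9) 128)))
    (Nat.lor (Nat.land (Nat.shiftRight n 11) 256) (Nat.land (Nat.shiftRight n 12) 512))))) 15

def c6 : ℕ := nat_lit 17059907
def c8 : ℕ := nat_lit 17059913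
def c9 : ℕ := nat_lit 17125441

/-- class representatives -/
noncomputable def rp (k : ℕ) : ℕ := nth one [one, one, zc, cj, cu, cl, c6, ct, c8, c9] k

theorem cls_spec {n : ℕ} (h : inP mT n = true) :
    cls n < 10 ∧ (mul n n = one → cls n ≠ 0) ∧ (cls n ≠ 0 → n ∈ invT) := by
  have := bits_T.all (f := fun n => and (Nat.blt (cls n) 10) (Bool.rec (mL n invT)
    (not (Nat.beq (sq n) one)) (Nat.beq (cls n) 0))) (by decide +kernel) h
  rw [Bool.and_eq_true, Nat.blt_eq] at this
  obtain ⟨h1, h2⟩ := this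
  refine ⟨h1, fun h3 h4 => ?_, fun h3 => ?_⟩
  · rw [(beq_iff _ _).2 h4, sq_eq, (beq_iff _ _).2 h3] at h2
    exact Bool.false_ne_true h2
  · rw [beq_false h3] at h2
    exact (mL_iff _ _).1 h2

theorem V_rp (k : ℕ) : V (rp k) := nth_prop (P := V) V_one (fun n hn => V.of_vb
  ((aL_iff _ vb).1 (by decide +kernel) n hn)) k

/-- the number of members of a list passing a test -/
noncomputable def cntL (l : List ℕ) (f : ℕ → Bool) : ℕ :=
  List.rec 0 (fun a _ ih => Bool.rec ih (Nat.succ ih) (f a)) l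

theorem cntL_eq (f : ℕ → Bool) : ∀ l : List ℕ, cntL l f = (l.filter f).length
  | [] => rfl
  | a :: l => by
    have e : cntL (a :: l) f = Bool.rec (cntL l f) (Nat.succ (cntL l f)) (f a) := rfl
    rw [e, cntL_eq f l, List.filter_cons]
    cases f a <;> rfl

/-- the list of a pattern set -/
noncomputable def lsP (bs : List ℕ) : ℕ → List ℕ → List ℕ :=
  List.rec (fun x acc => x :: acc)
    (fun b _ ih x acc => ih x (frc (Nat.xor x (Nat.shiftLeft 1 b)) fun y => ih y acc)) bs

theorem mem_lsP {n : ℕ} : ∀ {bs : List ℕ} {x : ℕ} {acc : List ℕ},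
    (n ∈ acc ∨ ∀ i ∉ bs, n.testBit i = x.testBit i) → n ∈ lsP bs x acc
  | [], x, acc, h => by
    rcases h with h | h
    · exact List.mem_cons_of_mem _ h
    · rw [Nat.eq_of_testBit_eq fun i => h i (by simp)]; exact List.mem_cons_self
  | b :: bs, x, acc, h => by
    have e : lsP (b :: bs) x acc =
      lsP bs x (frc (Nat.xor x (Nat.shiftLeft 1 b)) fun y => lsP bs y acc) := rfl
    rw [e, frc_eq]
    rcases h with h | h
    · exact mem_lsP (Or.inl (mem_lsP (Or.inl h)))
    · rcases split_bit h with h | h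
      · exact mem_lsP (Or.inr h)
      · exact mem_lsP (Or.inl (mem_lsP (Or.inr h)))

namespace Emb

variable {G : Type*} [Group G] (E : Emb G)

/-- `g` acts on the codes by the partial map `α` -/
def Act (g : G) (α : ℕ → ℕ) : Prop :=
  g * g = 1 ∧ ∀ n, V n → α n ≠ 0 → V (α n) ∧ g * E.ι n * g⁻¹ = E.ι (α n)

theorem act_no : E.Act 1 no := ⟨one_mul 1, fun _ _ h => absurd rfl h⟩

/-- the values of the letters -/
noncomputable def g (r s : G) (i : ℕ) : G := if i = 6 then r else if i = 7 then s else E.ι (lc i)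

variable {E} {r s : G} {α β : ℕ → ℕ}

theorem g_sq (hr : E.Act r α) (hs : E.Act s β) (i : ℕ) : E.g r s i * E.g r s i = 1 := by
  unfold g; split_ifs
  exacts [hr.1, hs.1, E.lc_sq i]

theorem mw_sound (hr : E.Act r α) (hs : E.Act s β) {n : ℕ} (hn : V n) : ∀ w : List ℕ,
    mw α β w n ≠ 0 → V (mw α β w n) ∧
      ev (E.g r s) w * E.ι n * (ev (E.g r s) w)⁻¹ = E.ι (mw α β w n)
  | [], _ => ⟨hn, by simp [ev_nil]; rfl⟩
  | x :: w, h => by
    have e : mw α β (x :: w) n = mv α β x (mw α β w n) := rfl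
    have h0 : mw α β w n ≠ 0 := fun h0 => h (by rw [e, h0]; rfl)
    obtain ⟨h1, h2⟩ := mw_sound hr hs hn w h0
    have e2 : ev (E.g r s) (x :: w) * E.ι n * (ev (E.g r s) (x :: w))⁻¹ =
        E.g r s (x / 2) * E.ι (mw α β w n) * (E.g r s (x / 2))⁻¹ := by
      rw [ev_cons, evL_eq (g_sq hr hs), ← h2]; group
    rw [e2]
    rw [e, mv, frc_eq, beq_false h0, frc_eq, shiftRight_one'] at h ⊢
    unfold g
    split_ifs with h6 h7
    · rw [h6] at h ⊢; exact hr.2 _ h1 h
    · rw [h7] at h ⊢; exact hs.2 _ h1 h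
    · rw [beq_false h6, beq_false h7]
      exact ⟨(lc_spec _).1.mul (h1.mul (lc_spec _).1), E.ι_cn (lc_spec _).1 (lc_spec _).2 h1⟩

theorem mw_eq (hr : E.Act r α) (hs : E.Act s β) {n m : ℕ} {w : List ℕ}
    (h : (vb n && Nat.beq (mw α β w n) m && Nat.blt 0 m) = true) :
    ev (E.g r s) w * E.ι n * (ev (E.g r s) w)⁻¹ = E.ι m := by
  simp only [Bool.and_eq_true, beq_iff, Nat.blt_eq] at h
  rw [← h.1.2]
  exact (mw_sound hr hs (V.of_vb h.1.1) w (by omega)).2

theorem g_mem {H : Subgroup G} (h : ∀ i, E.ι (lc i) ∈ H) (hr : r ∈ H) (hs : s ∈ H) (w : List ℕ) :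
    ev (E.g r s) w ∈ H := ev_mem fun x _ => by
  unfold g; split_ifs
  exacts [hr, hs, h _]

theorem cls_conj {n : ℕ} (h : inP mT n = true) (h0 : cls n ≠ 0) :
    ∃ c, c * E.z = E.z * c ∧ c * E.ι n * c⁻¹ = E.ι (rp (cls n)) := by
  have h1 := (cls_spec h).2.2 h0
  rw [show invT = cert.map Prod.fst by decide +kernel, List.mem_map] at h1
  obtain ⟨p, hp, rfl⟩ := h1
  have h2 := (aL_iff cert fun p => and (Nat.beq (mw no no p.2 p.1) (rp (cls p.1)))
    (Nat.blt 0 (rp (cls p.1)))).1 (by decide +kernel) p hp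
  simp only [Bool.and_eq_true, beq_iff, Nat.blt_eq] at h2
  refine ⟨ev (E.g 1 1) p.2, mem_centralizer_singleton_iff.1 (g_mem (fun i =>
    mem_centralizer_singleton_iff.2 (E.comm_z (lc_spec i).1)) (one_mem _) (one_mem _) _), ?_⟩
  rw [← h2.1]
  exact (mw_sound E.act_no E.act_no (V_of_T h) _ (by omega)).2

variable (E) in
/-- the element with code `n` is conjugate to the central involution -/
def Z (n : ℕ) : Prop := IsConj E.z (E.ι n)

theorem Z.of_conj {n m : ℕ} (h : E.Z n) {c : G} (e : c * E.ι n * c⁻¹ = E.ι m) : E.Z m :=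
  IsConj.trans h (isConj_iff.2 ⟨c, e⟩)

theorem Z.of_conj' {n m : ℕ} (h : E.Z m) {c : G} (e : c * E.ι n * c⁻¹ = E.ι m) : E.Z n :=
  IsConj.trans h (isConj_iff.2 ⟨c, e⟩).symm

theorem Z_iff {n : ℕ} (h : inP mT n = true) (h0 : cls n ≠ 0) : E.Z n ↔ E.Z (rp (cls n)) := by
  obtain ⟨c, -, e⟩ := cls_conj (E := E) h h0
  exact ⟨fun h => h.of_conj e, fun h => h.of_conj' e⟩

theorem Z.cls_ne {n : ℕ} (h : E.Z n) (hn : inP mT n = true) : cls n ≠ 0 := by
  obtain ⟨c, e⟩ := isConj_iff.1 h
  refine (cls_spec hn).2.1 ((E.sq_eq_one (V_of_T hn)).1 ?_)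
  rw [← e, conj_mul, E.z_sq]; group

theorem not_Z_one : ¬ E.Z one := fun h => E.z_ne (by simpa [Z, E.ι_one] using h)

theorem Z.of_cls {n m : ℕ} (h : E.Z n) (hn : inP mT n = true) (hm : inP mT m = true)
    (e : cls m = cls n) : E.Z m := by
  have := h.cls_ne hn
  rw [Z_iff hm (e ▸ this), e, ← Z_iff hn this]; exact h

variable [Finite G]

theorem card_P {m : ℕ} [Fact (Trs m)] {bs : List ℕ} (hb : Bits m bs) (h0 : m ||| mT = mT)
    (h1 : (lsP bs one []).Nodup) (h2 : aL (lsP bs one []) (inP m) = true) :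
    Nat.card (E.P m) = (lsP bs one []).length := by
  have h3 := (aL_iff _ _).1 h2
  have e : (E.P m : Set G) = E.ι '' (lsP bs one []).toFinset := by
    ext g
    constructor
    · rintro ⟨n, -, h, rfl⟩
      exact ⟨n, by simpa using mem_lsP (Or.inr (hb.eq h)), rfl⟩
    · rintro ⟨n, h, rfl⟩
      have := h3 n (by simpa using h)
      exact ⟨n, V_of_T (inP_mono h0 this), this, rfl⟩
  have : Nat.card (E.P m) = (E.P m : Set G).ncard := rfl
  rw [this, e, Set.InjOn.ncard_image, Set.ncard_coe_finset, List.toFinset_card_of_nodup h1]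
  intro a ha b hb h
  exact E.inj (V_of_T (inP_mono h0 (h3 a (by simpa using ha))))
    (V_of_T (inP_mono h0 (h3 b (by simpa using hb)))) h

theorem card_A1 : Nat.card (E.P mA1) = 64 :=
  (card_P bits_A1 (by decide) (by decide +kernel) (by decide +kernel)).trans (by decide +kernel)

theorem card_A2 : Nat.card (E.P mA2) = 64 :=
  (card_P bits_A2 (by decide) (by decide +kernel) (by decide +kernel)).trans (by decide +kernel)

theorem sq_of_P {m : ℕ} [Fact (Trs m)] {bs : List ℕ} (hb : Bits m bs)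
    (hc : allP bs (fun n => Nat.beq (sq n) one) one = true) : ∀ x ∈ E.P m, x * x = 1 := by
  rintro _ ⟨n, h1, h2, rfl⟩
  exact (E.sq_eq_one h1).2 (sq_eq n ▸ (beq_iff _ _).1 (hb.all hc h2))

theorem sq_A1 : ∀ x ∈ E.P mA1, x * x = 1 := sq_of_P bits_A1 (by decide +kernel)

theorem sq_A2 : ∀ x ∈ E.P mA2, x * x = 1 := sq_of_P bits_A2 (by decide +kernel)

omit [Finite G] in
theorem comm_of_sq {B : Subgroup G} (h : ∀ x ∈ B, x * x = 1) {x y : G} (hx : x ∈ B) (hy : y ∈ B) :
    x * y = y * x := by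
  rw [← inv_eq_of_mul_eq_one_right (h _ (B.mul_mem hx hy)), mul_inv_rev,
    inv_eq_of_mul_eq_one_right (h _ hx), inv_eq_of_mul_eq_one_right (h _ hy)]

/-- the elementary abelian subgroups of order 64 -/
theorem e64 {B : Subgroup G} (hB : B ≤ E.P mT) (h2 : ∀ x ∈ B, x * x = 1) (hc : Nat.card B = 64) :
    B = E.P mA1 ∨ B = E.P mA2 := by
  have key : ∀ x ∈ B, x ∈ E.P mA1 ∨ x ∈ E.P mA2 := fun x hx => by
    obtain ⟨n, h3, h4, rfl⟩ := hB hx
    have hi : ∀ {k}, V k → inP mT k = true → E.ι k ∈ B → k ∈ invT := fun h3 h4 hk =>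
      (cls_spec h4).2.2 ((cls_spec h4).2.1 ((E.sq_eq_one h3).1 (h2 _ hk)))
    have h5 := (aL_iff invT fun n => or (or (inP mA1 n) (inP mA2 n))
      (Nat.blt (cntL invT (cm n)) 64)).1 (by decide +kernel) n (hi h3 h4 hx)
    rw [Bool.or_eq_true, Bool.or_eq_true, Nat.blt_eq, cntL_eq] at h5
    refine (h5.resolve_right fun h5 => ?_).imp (ι_mem_P h3).2 (ι_mem_P h3).2
    have e : (B : Set G) ⊆ E.ι '' (invT.filter (cm n)).toFinset := fun y hy => by
      obtain ⟨k, h6, h7, rfl⟩ := hB hy
      exact ⟨k, by simpa using ⟨hi h6 h7 hy, (E.comm_iff h3 h6).1 (comm_of_sq h2 hx hy)⟩, rfl⟩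
    have h6 : (B : Set G).ncard = 64 := hc
    have h7 := (Set.ncard_le_ncard e ((Finset.finite_toSet _).image _)).trans
      (Set.ncard_image_le (Finset.finite_toSet _))
    rw [Set.ncard_coe_finset] at h7
    have := List.toFinset_card_le (invT.filter (cm n))
    omega
  have : B ≤ E.P mA1 ∨ B ≤ E.P mA2 := by
    by_contra hne
    rw [not_or, SetLike.not_le_iff_exists, SetLike.not_le_iff_exists] at hne
    obtain ⟨⟨x, hx, h3⟩, y, hy, h4⟩ := hne
    rcases key _ (B.mul_mem hx hy) with h | h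
    · exact h3 ((mul_mem_cancel_right ((key y hy).resolve_right h4)).1 h)
    · exact h4 ((mul_mem_cancel_left ((key x hx).resolve_left h3)).1 h)
  exact this.imp (fun h => eq_of_le_of_card_ge h (by rw [card_A1, hc]))
    fun h => eq_of_le_of_card_ge h (by rw [card_A2, hc])

theorem conj_e64 {A : Subgroup G} (h2 : ∀ x ∈ A, x * x = 1) (hc : Nat.card A = 64) {g : G}
    (h : ∀ x ∈ A, g * x * g⁻¹ ∈ E.P mT) : A.map (MulAut.conj g).toMonoidHom = E.P mA1 ∨
      A.map (MulAut.conj g).toMonoidHom = E.P mA2 :=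
  e64 (map_conj_le_iff.2 h) (fun x hx => by
    have := h2 _ (mem_map_conj.1 hx)
    calc x * x = g * (g⁻¹ * x * g * (g⁻¹ * x * g)) * g⁻¹ := by group
      _ = 1 := by rw [this]; group) (by rw [card_map_conj, hc])

theorem lc_mem_normalizer {m : ℕ} [Fact (Trs m)] {bs : List ℕ} (hb : Bits m bs) {l : List ℕ}
    (h : aL l (fun i => allP bs (fun n => inP m (cn (lc i) n)) one) = true) {i : ℕ}
    (hi : i < 14 → i ∈ l) : E.ι (lc i) ∈ normalizer (E.P m : Set G) := by
  by_cases h14 : i < 14
  · refine mem_normalizer_of_conj_le ?_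
    rintro _ ⟨n, h1, h2, rfl⟩
    rw [E.ι_cn (lc_spec i).1 (lc_spec i).2 h1]
    exact (ι_mem_P ((lc_spec i).1.mul (h1.mul (lc_spec i).1))).2
      (hb.all ((aL_iff _ _).1 h i (hi h14)) h2)
  · rw [lc, nth_eq, List.getD_eq_default _ _ (by simpa using h14), E.ι_one]; exact one_mem _

theorem T_le_normalizer {m : ℕ} [Fact (Trs m)] {bs : List ℕ} (hb : Bits m bs)
    (h : aL [0, 1, 2, 3, 6, 7, 8, 9, 10, 11, 12, 13]
      (fun i => allP bs (fun n => inP m (cn (lc i) n)) one) = true) :
    E.P mT ≤ normalizer (E.P m : Set G) :=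
  T_le fun i h4 h5 => lc_mem_normalizer hb h fun h14 => by
    interval_cases i <;> simp at h4 h5 ⊢

theorem C_le_normalizer {m : ℕ} [Fact (Trs m)] {bs : List ℕ} (hb : Bits m bs)
    (h : aL (List.range 14) (fun i => allP bs (fun n => inP m (cn (lc i) n)) one) = true) {g : G}
    (hg : g * E.z = E.z * g) : g ∈ normalizer (E.P m : Set G) :=
  mem_of_comm (fun _ => lc_mem_normalizer hb h List.mem_range.2) hg

theorem T_le_N1 : E.P mT ≤ normalizer (E.P mA1 : Set G) :=
  T_le_normalizer bits_A1 (by decide +kernel)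

theorem T_le_N2 : E.P mT ≤ normalizer (E.P mA2 : Set G) :=
  T_le_normalizer bits_A2 (by decide +kernel)

theorem not_conj_A (g : G) : (E.P mA1).map (MulAut.conj g).toMonoidHom ≠ E.P mA2 := fun e => by
  have h1 : (E.P mT).map (MulAut.conj g).toMonoidHom ≤ normalizer (E.P mA2 : Set G) := by
    rw [map_conj_le_iff]
    intro x hx
    rw [← map_conj_eq_self_iff, ← e, map_conj_map_conj,
      show g * x * g⁻¹ * g = g * x by group, ← map_conj_map_conj,
      map_conj_eq_self_iff.2 (T_le_N1 hx)]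
  obtain ⟨h, h2, h3⟩ := exists_conj_le_sylow_of_le (isPGroup_map_conj isPGroup_T g) h1 E.T T_le_N2
  have h4 : h * g ∈ E.P mT := normalizer_T (mem_normalizer_of_conj_le fun x hx => by
    have := h3 _ (conj_mem_map_conj (g := g) hx)
    rwa [show h * (g * x * g⁻¹) * h⁻¹ = h * g * x * (h * g)⁻¹ by group] at this)
  have h5 := map_conj_eq_self_iff.2 (T_le_N1 h4)
  rw [← map_conj_map_conj, e, map_conj_eq_self_iff.2 h2] at h5
  have h6 : E.ι cc ∈ E.P mA1 := h5 ▸ ι_mem (by decide +kernel)
  exact absurd ((ι_mem_P (V.of_vb (by decide +kernel))).1 h6) (by decide +kernel)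

theorem mem_N1 {g : G} (h : ∀ x ∈ E.P mA1, g * x * g⁻¹ ∈ E.P mT) :
    g ∈ normalizer (E.P mA1 : Set G) :=
  map_conj_eq_self_iff.1 ((conj_e64 sq_A1 card_A1 h).resolve_right (not_conj_A g))

theorem mem_N2 {g : G} (h : ∀ x ∈ E.P mA2, g * x * g⁻¹ ∈ E.P mT) :
    g ∈ normalizer (E.P mA2 : Set G) :=
  map_conj_eq_self_iff.1 ((conj_e64 sq_A2 card_A2 h).resolve_left fun e => not_conj_A g⁻¹ (by
    rw [← e, map_conj_map_conj, inv_mul_cancel, map_conj_one]))

theorem Z.exists_conj {n : ℕ} (h : E.Z n) {S : Subgroup G} (hS : IsPGroup 2 S)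
    (hx : ∀ y ∈ S, y * E.ι n = E.ι n * y) :
    ∃ g, g * E.ι n * g⁻¹ = E.z ∧ ∀ y ∈ S, g * y * g⁻¹ ∈ E.P mT := by
  obtain ⟨c, e⟩ := isConj_iff.1 (IsConj.symm h)
  obtain ⟨k, h1, h2⟩ := exists_conj_le_sylow_of_le (H := centralizer {E.z})
    (isPGroup_map_conj hS c) (map_conj_le_iff.2 fun y hy => mem_centralizer_singleton_iff.2 (by
      rw [← e, conj_mul, conj_mul, hx y hy])) E.T
    fun y hy => mem_centralizer_singleton_iff.2 (P_comm_z hy)
  refine ⟨k * c, ?_, fun y hy => ?_⟩
  · rw [show k * c * E.ι n * (k * c)⁻¹ = k * (c * E.ι n * c⁻¹) * k⁻¹ by group, e,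
      mem_centralizer_singleton_iff.1 h1, mul_inv_cancel_right]
  · have := h2 _ (conj_mem_map_conj (g := c) hy)
    rwa [show k * (c * y * c⁻¹) * k⁻¹ = k * c * y * (k * c)⁻¹ by group] at this

theorem Z.exists_N12 {n : ℕ} (h : E.Z n) (hn : (vb n && inP mA1 n && inP mA2 n) = true) :
    ∃ g, g * E.ι n * g⁻¹ = E.z ∧ g ∈ normalizer (E.P mA1 : Set G) ∧
      g ∈ normalizer (E.P mA2 : Set G) := by
  simp only [Bool.and_eq_true] at hn
  have h1 := (ι_mem_P (E := E) (V.of_vb hn.1.1)).2 hn.1.2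
  have h2 := (ι_mem_P (E := E) (V.of_vb hn.1.1)).2 hn.2
  have h3 : E.P mA1 ⊔ E.P mA2 ≤ centralizer {E.ι n} := sup_le
    (fun y hy => mem_centralizer_singleton_iff.2 (comm_of_sq sq_A1 hy h1))
    fun y hy => mem_centralizer_singleton_iff.2 (comm_of_sq sq_A2 hy h2)
  obtain ⟨g, h4, h5⟩ := h.exists_conj (S := E.P mA1 ⊔ E.P mA2)
    (isPGroup_T.to_le (sup_le (P_mono (by decide)) (P_mono (by decide))))
    fun y hy => mem_centralizer_singleton_iff.1 (h3 hy)
  exact ⟨g, h4, mem_N1 fun x hx => h5 x (mem_sup_left hx), mem_N2 fun x hx => h5 x (mem_sup_right hx)⟩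

omit [Finite G] in
theorem ι_sq {a b : ℕ} (ha : V a) (hb : V b) :
    E.ι (sq (mul a b)) = E.ι a * E.ι b * (E.ι a * E.ι b) := by
  rw [sq_eq, E.map_mul (ha.mul hb) (ha.mul hb), E.map_mul ha hb]

theorem V_sq {a : ℕ} (h : V a) : V (sq a) := sq_eq a ▸ h.mul h

theorem not_Z_of {n : ℕ} (hn : (vb n && inP mA1 n && inP mA2 n) = true)
    (hc : allP bA1 (fun a => allP bA2 (fun b => not (Nat.beq (sq (mul a b)) n)) one) one = true) :
    ¬ E.Z n := fun h => by
  obtain ⟨g, h1, h2, h3⟩ := h.exists_N12 hn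
  obtain ⟨a, a1, a2, a3⟩ := (mem_normalizer_iff''.1 h2 _).1 (ι_mem (n := ci) (by decide +kernel))
  obtain ⟨b, b1, b2, b3⟩ := (mem_normalizer_iff''.1 h3 _).1 (ι_mem (n := ck) (by decide +kernel))
  have h4 := bits_A2.all (bits_A1.all hc a2) b2
  have h5 : E.z = E.ι (sq (mul ci ck)) := congrArg E.ι (by decide +kernel)
  rw [ι_sq (V.of_vb (by decide +kernel)) (V.of_vb (by decide +kernel))] at h5
  have h6 : E.ι (sq (mul a b)) = E.ι n := by
    rw [ι_sq a1 b1, a3, b3, ← conj_inj (g := g), h1, h5]; group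
  simp only [Bool.and_eq_true] at hn
  rw [E.inj (V_sq (a1.mul b1)) (V.of_vb hn.1.1) h6, Nat.beq_refl] at h4
  exact absurd h4 (by decide)

theorem not_Z_t : ¬ E.Z ct := not_Z_of (by decide +kernel) (by decide +kernel)

theorem not_Z_c6 : ¬ E.Z c6 := not_Z_of (by decide +kernel) (by decide +kernel)

theorem not_Z_j (h5 : ¬ E.Z cl) : ¬ E.Z cj := fun h => by
  obtain ⟨g, h1, h2, h3⟩ := h.exists_N12 (by decide +kernel)
  have vb' : V cb := V.of_vb (by decide +kernel)
  have vc : V cc := V.of_vb (by decide +kernel)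
  have vk : V 17633345 := V.of_vb (by decide +kernel)
  obtain ⟨a, a1, a2, a3⟩ := (mem_normalizer_iff.1 h2 _).1 (ι_mem (n := cb) (by decide +kernel))
  obtain ⟨b, b1, b2, b3⟩ := (mem_normalizer_iff.1 h3 _).1 (ι_mem (n := cc) (by decide +kernel))
  obtain ⟨c, c1, c2, c3⟩ :=
    (mem_normalizer_iff.1 h3 _).1 (ι_mem (n := 17633345) (by decide +kernel))
  have hc : allP bA1 (fun a => imp (not (allP bA2 (fun b => not (Nat.beq (sq (mul a b)) zc)) one))
    (allP bA2 (fun c => frc (sq (mul a c)) fun x => and (inP mT x) (mL (cls x) [1, 5] ||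
      Nat.beq x zc)) one)) one = true := by decide +kernel
  have e1 : E.ι (sq (mul a b)) = E.z := by
    rw [ι_sq a1 b1, a3, b3, ← h1, show cj = sq (mul cb cc) by decide +kernel, ι_sq vb' vc]; group
  have e2 : g * E.ι 17061953 * g⁻¹ = E.ι (sq (mul a c)) := by
    rw [ι_sq a1 c1, a3, c3, show 17061953 = sq (mul cb 17633345) by decide +kernel, ι_sq vb' vk]
    group
  have h6 := bits_A2.all ((imp_iff _ _).1 (bits_A1.all hc a2) (by
    rw [Bool.not_eq_true', ← Bool.not_eq_true]
    intro h6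
    have := bits_A2.all h6 b2
    rw [E.inj (V_sq (a1.mul b1)) V_zc e1, Nat.beq_refl] at this
    exact absurd this (by decide))) c2
  have h7 := (h.of_cls (m := 17061953) (by decide +kernel) (by decide +kernel)
    (by decide +kernel)).of_conj e2
  simp only [frc_eq, Bool.and_eq_true, Bool.or_eq_true, mL_iff, beq_iff, List.mem_cons,
    List.not_mem_nil, or_false] at h6
  have h8 := (Z_iff h6.1 (h7.cls_ne h6.1)).1 h7
  rcases h6.2 with (e | e) | e
  · rw [e] at h8; exact not_Z_one h8
  · rw [e] at h8; exact h5 h8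
  · rw [e, ← z, ← h1, conj_inj] at e2
    exact absurd (E.inj (V.of_vb (by decide +kernel)) (V.of_vb (by decide +kernel)) e2) (by decide)

theorem not_Z_c8 (h5 : ¬ E.Z cl) : ¬ E.Z c8 := fun h => by
  have v8 : V c8 := V.of_vb (by decide +kernel)
  have v0 : V 17059929 := V.of_vb (by decide +kernel)
  obtain ⟨g, h1, h2⟩ := h.exists_conj (S := E.P mA1) (isPGroup_P (by decide))
    fun y hy => comm_of_sq sq_A1 hy (ι_mem (by decide +kernel))
  obtain ⟨n, n1, n2, n3⟩ :=
    (mem_normalizer_iff.1 (mem_N1 h2) _).1 (ι_mem (n := 17059929) (by decide +kernel))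
  have h3 := (h.of_cls (m := 17059929) (by decide +kernel) (by decide +kernel)
    (by decide +kernel)).of_conj n3.symm
  have h4 := bits_A1.all (f := fun n => inP mT (mul n zc) && (mL (cls n) [1, 3, 5, 6, 7] ||
    Nat.beq n zc || Nat.beq (cls (mul n zc)) (cls n))) (by decide +kernel) n2
  have hT : inP mT n = true := inP_mono (by decide) n2
  have h8 := (Z_iff hT (h3.cls_ne hT)).1 h3
  simp only [Bool.and_eq_true, Bool.or_eq_true, mL_iff, beq_iff, List.mem_cons,
    List.not_mem_nil, or_false] at h4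
  rcases h4.2 with ((e | e | e | e | e) | e) | e
  · rw [e] at h8; exact not_Z_one h8
  · rw [e] at h8; exact not_Z_j h5 h8
  · rw [e] at h8; exact h5 h8
  · rw [e] at h8; exact not_Z_c6 h8
  · rw [e] at h8; exact not_Z_t h8
  · rw [e, ← z, ← h1, eq_comm, conj_inj] at n3
    exact absurd (E.inj v0 v8 n3) (by decide)
  · refine h5 ((h3.of_cls hT h4.1 e).of_conj' (c := g) ?_)
    rw [E.map_mul n1 V_zc, n3, ← z, ← h1, show cl = mul 17059929 c8 by decide +kernel,
      E.map_mul v0 v8]
    group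

omit [Finite G] in
theorem tw_Z {n m : ℕ} (h : (vb m && Nat.beq (tr n) m && Nat.beq (mul m m) one) = true) :
    E.tw.Z n ↔ E.Z m := by
  simp only [Bool.and_eq_true, beq_iff] at h
  rw [Z, Z, tw_z, tw_ι, h.1.2, inv_eq_of_mul_eq_one_right ((E.sq_eq_one (V.of_vb h.1.1)).2 h.2)]

/-- if the central involution is not isolated, one of the two other classes of transvections of
the extraspecial group fuses to it -/
theorem Z_or {g : G} (h1 : g * E.z * g⁻¹ ∈ E.P mT) (h2 : g * E.z * g⁻¹ ≠ E.z) : E.Z cu ∨ E.Z cl := by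
  by_contra hne
  rw [not_or] at hne
  obtain ⟨n, n1, n2, n3⟩ := h1
  have h3 : E.Z n := isConj_iff.2 ⟨g, n3.symm⟩
  have h4 := h3.cls_ne n2
  have h5 := (Z_iff n2 h4).1 h3
  have h6 := (cls_spec n2).1
  obtain ⟨c, c1, c2⟩ := cls_conj (E := E) n2 h4
  generalize cls n = k at *
  interval_cases k
  · exact h4 rfl
  · exact not_Z_one h5
  · refine h2 ?_
    rw [← n3, ← conj_inj (g := c), c2, c1, mul_inv_cancel_right]; rfl
  · exact not_Z_j hne.2 h5
  · exact hne.1 h5
  · exact hne.2 h5
  · exact not_Z_c6 h5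
  · exact not_Z_t h5
  · exact not_Z_c8 hne.2 h5
  · exact not_Z_c8 (E := E.tw) (mt (tw_Z (m := cu) (by decide +kernel)).1 hne.1)
      ((tw_Z (m := c9) (by decide +kernel)).2 h5)

end Emb

end CfsgLib.Held
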