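import Mathlib
import Cfsg.Agent.Lib.W2.Tab
import Cfsg.Agent.Lib.SylT.PC
import Cfsg.Agent.Lib.MOrb.Spin
import Cfsg.Agent.Lib.LargeExtra.Setting

/-!
# Extensions of the extraspecial group `2^{1+6}` by `SL(3, 2)`: the model of the extraspecial group
-/

set_option autoImplicit false
set_option Elab.async false
set_option maxRecDepth 100000
set_option synthInstance.maxSize 100000

namespace CfsgLib.Held.X

open CfsgLib.W2 CfsgLib.W2.TG CfsgLib.SylT CfsgLib.ExtraTwo CfsgLib.LargeExtra Subgroup QuadraticMap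

/-- the multiplication -/
noncomputable def mq (p q : ℕ) : ℕ := MOrb.frc p fun p => MOrb.frc q fun q =>
  Nat.xor (Nat.xor p q) (Nat.shiftLeft (Nat.land
    (Nat.shiftRight 150 (Nat.land (Nat.land (Nat.shiftRight p 3) q) 7)) 1) 6)

theorem okQ : TOk 128 mq fun p => MOrb.frc p fun p => Nat.xor p (mq p p) :=
  (SOk.of_light (gs := [1, 2, 4, 8, 16, 32]) (D := 3) (by decide +kernel)).tok (by decide +kernel)

/-- the model -/
abbrev M : Type := TG okQ

/-- the generators -/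
noncomputable def e (i : ℕ) : M := o (Nat.shiftLeft 1 i)

/-- the central involution -/
noncomputable def Z : M := o 64

theorem genM : genB ([e 0, e 1, e 2, e 3, e 4, e 5] : List M) 3 = true := by decide +kernel

/-- the map given by a table -/
noncomputable def tb (T : ℕ) (p : M) : M := o (tab1 7 127 T p.v)

/-- the endomorphism given by a table -/
noncomputable def hT (T : ℕ) (h : tb T 1 = 1 ∧ ∀ g ∈ ([e 0, e 1, e 2, e 3, e 4, e 5] : List M),
    ∀ a, tb T (a * g) = tb T a * tb T g) : M →* M := homOf genM (tb T) h.1 h.2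

/-- the action of an element of order seven -/
noncomputable def sg : M →* M := hT 0xebdf8f3edd3970dbbf4ebddb3568ab5e8d3ad529509b3e4cb9d32548fbffcfbfdf3d78cb9f0e3cd93160bb7ecdbbd72d588b1e0c38d121406add8b36cd19305abd4ab5cb15282a5c8932c509101a3c48b1c305087afdcbb7cf1d384a9d0a34c911203a7cc9b3c70d180a1c0830c10100
  (by decide +kernel)

/-- the action of an element of order three -/
noncomputable def bt : M →* M := hT 0xd7ab7eedbb34e8c78b3e6cb930e0b76afdebb72cd8a74abd6ab528d0f7ebffefbf3cf8e7cbbf6ebd38f0972a7ce9b324c8870a3c68b120c056a97ae5ab14a846893a64a910a03668f9e3a70c982648b962a5089076e9fbe7af1cb866c9bb66ad18b0162878e1a3048806083860a10080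
  (by decide +kernel)

/-- tables of the three possible actions of an involution -/
def muT (k : ℕ) : ℕ := [0xfffbdfafbf3cf8efdb9f2ebd38f0bf7addabb72cd8af5a9d2ab528d0dfbb5eadbb34e8cf9b1e2cb930e09f3a5ca9b324c88f1a1c28b120c07ef9dba7af1cb86ed99b26ad18b03e78d9a3a70c982e589922a508905eb95aa5ab14a84e991a24a910a01e3858a1a304880e181820a10080,
  0xf2e3ebcf6ebfbee2c3ab4e6cbbb6b66af9eb262e9ca64ab96a242a94dab34a8debb5aaca930a0ce9b1a21f385ca1b304c80f181c20b100c073e1efc77e9ffe63c1af467c9bf63768fde3360edc2748bd62340ad45bb14e85fb95ea4b910e04f991e29e3a58a9a324888e1a1828a12080,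
  0x9f3addadbb1cb80e189924a938f0dfbbdfa9b30c984e999b20a128d0bf7a5cafbf14a82e581826ad30e0fffb5eabb704886ed91a22a520c01e38d9a5ab3cf88f1a9d2cb918b05eb9dba1a32cd8cf9b9f28b108903e7858a7af34e8af5a1c2ebd10a07ef95aa3a724c8efdb1e2ab50080].getD k 0

/-- the three possible actions of an involution -/
noncomputable def mu (k : Fin 3) (p : M) : M := tb (muT k.val) p

/-- a factor -/
noncomputable def fc (v : M) (i : ℕ) (p : M) : M := Bool.rec 1 p (bit v.v i)

/-- the endomorphism with given values at the generators -/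
noncomputable def au (p0 p1 p2 p3 p4 p5 v : M) : M :=
  fc v 0 p0 * (fc v 1 p1 * (fc v 2 p2 * (fc v 3 p3 * (fc v 4 p4 * (fc v 5 p5 * fc v 6 Z)))))

theorem au_e : ∀ v : M, au (e 0) (e 1) (e 2) (e 3) (e 4) (e 5) v = v := by decide +kernel

theorem map_eq_au (f : M →* M) (hz : f Z = Z) (v : M) :
    f v = au (f (e 0)) (f (e 1)) (f (e 2)) (f (e 3)) (f (e 4)) (f (e 5)) v := by
  have h : ∀ i p, f (fc v i p) = fc v i (f p) := fun i p => by
    unfold fc; cases bit v.v i
    exacts [map_one f, rfl]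
  conv_lhs => rw [← au_e v]
  simp only [au, map_mul, h, hz]

/-- the square of `sg` -/
noncomputable def s2 (p : M) : M := sg (sg p)

theorem key_b : ∀ p : M, s2^[3] p = p * s2 p → ∀ r : M, s2 r = r * s2^[5] r →
    p * r = r * p * Z → s2 p * r = r * s2 p → s2^[2] p * r = r * s2^[2] p → ∃ j < 7, ∀ v,
    au p (s2 p) (s2^[2] p) r (s2^[5] r) (s2^[6] r) (sg^[j] v) = sg^[j] (bt v) := by decide +kernel

theorem key_u : ∀ p0 : M, bt (bt p0) = p0 → p0 * p0 = 1 → ∀ p3 : M, bt (bt p3) = p3 → p3 * p3 = 1 →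
    p0 * p3 = p3 * p0 * Z → ∀ p1 : M, p1 * p1 = 1 → p1 * p0 = p0 * p1 → p1 * p3 = p3 * p1 →
    p1 * bt (bt p1) = bt p1 → ∀ p4 : M, p4 * p4 = 1 → p4 * p0 = p0 * p4 → p4 * p3 = p3 * p4 →
    p4 * bt p4 = bt (bt p4) → p1 * p4 = p4 * p1 * Z → p1 * bt p4 = bt p4 * p1 →
    (∀ i < 6, ((au p0 p1 (bt (bt p1)) p3 p4 (bt p4))^[2] (e i) * e i).v % 64 = 0) →
    (∀ i < 6, (((au p0 p1 (bt (bt p1)) p3 p4 (bt p4)) ∘ sg)^[3] (e i) * e i).v % 64 = 0) →
    ∃ c : M, bt c = c ∧ ∃ k, ∀ v, c * au p0 p1 (bt (bt p1)) p3 p4 (bt p4) v * c⁻¹ = mu k v := by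
  decide +kernel

theorem exists_xy {V : Type*} [AddCommGroup V] [Module (ZMod 2) V] (q : QuadraticForm (ZMod 2) V)
    (nd : ∀ v, (∀ w, polar q v w = 0) → v = 0) (A : V ≃ₗ[ZMod 2] V) (hq : ∀ v, q (A v) = q v)
    (h7 : ∀ v, A (A (A (A (A (A (A v)))))) = v) (h1 : ∃ v, A v ≠ v) :
    ∃ x y, A (A (A x)) = x + A x ∧ A (A (A y)) = A (A y) + y ∧ q x = 0 ∧ q y = 0 ∧
      polar q x (A x) = 0 ∧ polar q x (A (A x)) = 0 ∧ polar q y (A y) = 0 ∧ polar q y (A (A y)) = 0 ∧
      polar q x (A (A y)) = 1 ∧ polar q x (A y) = 0 ∧ polar q x y = 0 := by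
  have h2 : ∀ v : V, v + v = 0 := add_self_zmod2
  have h3 : ∀ v w : V, v + (v + w) = w := fun v w => by rw [← add_assoc, h2, zero_add]
  have hB : ∀ v w, polar q (A v) (A w) = polar q v w := fun v w => by
    simp only [polar, ← map_add, hq]
  let t1 := fun v => v + A v + A (A v) + A (A (A (A v)))
  let t3 := fun v => v + A (A (A v)) + A (A (A (A (A v)))) + A (A (A (A (A (A v)))))
  have adj : ∀ v w, polar q (t1 v) w = polar q v (t3 w) := fun v w => by
    simp only [t1, t3, polar_add_left, polar_add_right]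
    rw [← hB v (A (A (A w))), ← hB (A v) (A (A (A (A w)))), ← hB (A (A v)) (A (A (A (A (A w))))),
      ← hB (A (A (A v))) (A (A (A (A (A (A w)))))), ← hB v (A (A (A (A (A w))))),
      ← hB (A v) (A (A (A (A (A (A w)))))), ← hB v (A (A (A (A (A (A w)))))), h7]
    abel
  have r1 : ∀ v, A (A (A (t1 v))) = t1 v + A (t1 v) := fun v => by
    simp only [t1, map_add, h7, add_comm, add_left_comm, h3]
  have r3 : ∀ v, A (A (A (t3 v))) = A (A (t3 v)) + t3 v := fun v => by
    simp only [t3, map_add, h7, add_comm, add_left_comm, h3]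
  have s1 : ∀ x, A (A (A x)) = x + A x → t1 x = x ∧ t3 x = 0 := fun x h => by
    simp only [t1, t3, h, map_add, add_comm, add_left_comm, h2, h3, and_self, add_zero]
  have s3 : ∀ y, A (A (A y)) = A (A y) + y → t3 y = y ∧ t1 y = 0 := fun y h => by
    simp only [t1, t3, h, map_add, add_comm, add_left_comm, h2, h3, and_self, add_zero]
  obtain ⟨x, hx, h0⟩ : ∃ x, A (A (A x)) = x + A x ∧ x ≠ 0 := by
    by_contra! hc
    obtain ⟨v, hv⟩ := h1
    have e1 := fun v => hc _ (r1 v)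
    have e3 : ∀ w, t3 w = 0 := fun w => nd _ fun v => by
      rw [polar_comm, ← adj, e1, polar_zero_left]
    have e : A v = v + (t1 v + t3 v + t1 (A v) + t3 (A v)) := by
      simp only [t1, t3, h7, add_comm, add_left_comm, h2, h3, zero_add]
    exact hv (by simpa only [e1, e3, add_zero] using e)
  have bx : ∀ w, A (A (A w)) = w + A w → polar q x w = 0 := fun w h => by
    rw [← (s1 x hx).1, adj, (s1 w h).2, polar_zero_right]
  have hAx : ∀ x, A (A (A x)) = x + A x → A (A (A (A x))) = A x + A (A x) := fun x h => by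
    rw [h, map_add]
  have hAy : ∀ y, A (A (A y)) = A (A y) + y → A (A (A (A y))) = A (A (A y)) + A y := fun y h => by
    conv_lhs => rw [h, map_add]
  have qx : q x = 0 := by
    have e := bx _ (hAx x hx)
    rw [polar, ← hx, hq, hq, hq] at e
    simpa using e
  suffices ∃ y, A (A (A y)) = A (A y) + y ∧ polar q x (A (A y)) = 1 ∧ polar q x (A y) = 0 ∧
      polar q x y = 0 by
    obtain ⟨y, hy, e⟩ := this
    have by' : ∀ w, A (A (A w)) = A (A w) + w → polar q y w = 0 := fun w h => by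
      rw [polar_comm, ← (s3 y hy).1, ← adj, (s3 w h).2, polar_zero_left]
    have e2 := by' _ (hAy _ (hAy y hy))
    refine ⟨x, y, hx, hy, qx, ?_, bx _ (hAx x hx), bx _ (hAx _ (hAx x hx)), by' _ (hAy y hy), e2, e⟩
    rw [polar, add_comm, ← hy, hq, hq, hq] at e2
    simpa using e2
  obtain ⟨v, hv⟩ : ∃ v, polar q x v ≠ 0 := by_contra fun hc => h0 (nd x (by simpa using hc))
  have hy := r3 v
  rw [← (s1 x hx).1, adj, zmod2_ne_zero] at hv
  generalize t3 v = y at hy hv
  have a1 := hAy y hy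
  rcases zmod2_cases (polar q x (A y)) with b1 | b1 <;>
    rcases zmod2_cases (polar q x (A (A y))) with b2 | b2
  · refine ⟨A y, a1, ?_⟩
    simp only [hy, polar_add_right, hv, b1, b2]; decide
  · refine ⟨A (A (A y)), hAy _ (hAy _ a1), ?_⟩
    simp only [hy, map_add, polar_add_right, hv, b1, b2]; decide
  · refine ⟨A (A (A (A y))), hAy _ (hAy _ (hAy _ a1)), ?_⟩
    simp only [hy, map_add, polar_add_right, hv, b1, b2]; decide
  · refine ⟨A (A (A (A (A y)))), hAy _ (hAy _ (hAy _ (hAy _ a1))), ?_⟩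
    simp only [hy, map_add, polar_add_right, hv, b1, b2]; decide

/-- right hand sides of the commutator relations -/
def cw (i j : ℕ) : List ℕ := if j = i + 3 ∧ j < 6 then [j, 6] else [j]

theorem ker_M : ∀ v : M, v = 1 ∨ v = Z ∨ ∃ w, v * w * v⁻¹ * w⁻¹ = Z := by decide +kernel

theorem sg_e : sg (e 0) = e 1 ∧ sg (e 1) = e 2 ∧ sg (e 2) = e 0 * e 1 ∧ sg (e 3) = e 3 * e 4 ∧
    sg (e 4) = e 5 ∧ sg (e 5) = e 3 := by decide +kernel

theorem exists_xi {G : Type*} [Group G] [Finite G] {Q : Subgroup G} {z : G} (pre : Pre Q z)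
    (hQ : Nat.card Q = 128) {a : G} (haz : a * z = z * a) (h7 : a ^ 7 = 1) (ha : a ∉ Q) :
    ∃ ξ : M →* G, Function.Injective ξ ∧ ξ.range = Q ∧ ξ Z = z ∧ ∀ v, a * ξ v * a⁻¹ = ξ (sg v) := by
  obtain ⟨n, q, π, c⟩ := pre.es.exists_coord
  obtain ⟨ρ, h1, h2, h3⟩ := pre.exists_act c
  let a' : centralizer ({z} : Set G) := ⟨a, mem_cent.2 haz⟩
  let s := MulAut.conj a
  have hs : ∀ x ∈ Q, s x ∈ Q := pre.norm a haz
  have hπ : ∀ x ∈ Q, π (s x) = ρ a' (π x) := fun x hx => (h1 a' x hx).symm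
  have hz : s z = z := conj_eq_of_comm haz
  have hB : ∀ v w, polar q (ρ a' v) (ρ a' w) = polar q v w := fun v w => by
    simp only [polar, ← map_add, h2]
  obtain ⟨x, y, r1, r2, q1, q2, b1, b2, b3, b4, b5, b6, b7⟩ := exists_xy q
    (fun _ => c.eq_zero_of_polar) (ρ a') (h2 a') (fun v => by
      have : ρ a' ^ 7 = 1 := by rw [← map_pow, show a' ^ 7 = 1 from Subtype.ext h7, map_one]
      simpa [pow_succ] using LinearEquiv.congr_fun this v)
    (by_contra fun h => ha ((h3 a').1 (LinearEquiv.ext (by simpa using h))))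
  obtain ⟨x0, hx, ex, rx⟩ : ∃ x0 ∈ Q, π x0 = x ∧ s (s (s x0)) = x0 * s x0 := by
    obtain ⟨x0, hx, rfl⟩ := c.surj x
    rcases (c.eq_iff (Q.mul_mem hx (hs _ hx)) (hs _ (hs _ (hs _ hx)))).1 (by
      rw [c.map_mul _ hx _ (hs _ hx), hπ _ (hs _ (hs _ hx)), hπ _ (hs _ hx), hπ _ hx, r1]) with h | h
    · exact ⟨x0, hx, rfl, h⟩
    · refine ⟨x0 * z, Q.mul_mem hx c.es.mem, c.map_mul_z hx, ?_⟩
      simp only [map_mul, hz]
      rw [h, c.es.zz', mul_assoc, c.es.comm_z _ (hs _ hx), c.es.zz]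
  obtain ⟨y0, hy, ey, ry⟩ : ∃ y0 ∈ Q, π y0 = y ∧ s (s (s y0)) = s (s y0) * y0 := by
    obtain ⟨y0, hy, rfl⟩ := c.surj y
    rcases (c.eq_iff (Q.mul_mem (hs _ (hs _ hy)) hy) (hs _ (hs _ (hs _ hy)))).1 (by
      rw [c.map_mul _ (hs _ (hs _ hy)) _ hy, hπ _ (hs _ (hs _ hy)), hπ _ (hs _ hy), hπ _ hy, r2])
      with h | h
    · exact ⟨y0, hy, rfl, h⟩
    · refine ⟨y0 * z, Q.mul_mem hy c.es.mem, c.map_mul_z hy, ?_⟩
      simp only [map_mul, hz]
      rw [h, c.es.zz', mul_assoc, c.es.comm_z _ hy, c.es.zz]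
  let g : ℕ → G := fun i => [x0, s x0, s (s x0), s (s y0), y0, s y0, z].getD i 1
  let w : ℕ → _ := fun i => [x, ρ a' x, ρ a' (ρ a' x), ρ a' (ρ a' y), y, ρ a' y].getD i 0
  have hg : ∀ i < 7, g i ∈ Q ∧ π (g i) = w i ∧ q (w i) = 0 := fun i hi => by
    interval_cases i <;> simp [g, w, hx, hy, hs, hπ, ex, ey, h2, q1, q2, c.es.mem, c.map_z]
  have b8 : polar q (ρ a' x) y = 1 := by
    rw [← hB, ← hB, r1, polar_add_left, hB, b5, b6, add_zero]
  have b9 : polar q (ρ a' (ρ a' x)) y = 0 := by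
    rw [← hB, r1, polar_add_left, hB, b6, b7, add_zero]
  have hw : ∀ i < 7, ∀ j < 7, i < j → polar q (w i) (w j) = if j = i + 3 ∧ j < 6 then 1 else 0 := by
    intro i hi j hj hij
    interval_cases j <;> interval_cases i <;>
      simp [w, hB, b1, b2, b3, b4, b5, b6, b7, b8, b9, polar_comm q (ρ a' (ρ a' y)), polar_comm q (ρ a' y)]
  obtain ⟨ξ, hξ⟩ := exists_hom_pc (x := g) (g := e) (n := 7) (sq := fun _ => []) (cj := cw)
    (by decide) (fun i hi => ⟨(c.sq _ (hg i hi).1).1 (by rw [(hg i hi).2.1, (hg i hi).2.2]),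
      fun j hj hij => by
        have := c.polar_iff (hg i hi).1 (hg j hj).1
        rw [(hg i hi).2.1, (hg j hj).2.1, hw i hi j hj hij] at this
        unfold cw
        split_ifs at this ⊢
        · rw [c.es.comm_of_ne (hg i hi).1 (hg j hj).1 (by simpa using this), ← mul_assoc,
            ← c.es.comm_z _ (hg j hj).1]
          simp [ew, g]
        · simpa [ew] using this⟩)
    (by decide +kernel) (by rw [card_eq]; norm_num) fun S hS => eq_top_of_genB genM (by
      simp only [List.mem_cons, List.not_mem_nil, or_false]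
      rintro _ (rfl | rfl | rfl | rfl | rfl | rfl) <;> exact hS _ (by norm_num))
  have hZ : ξ Z = z := hξ 6 (by norm_num)
  have hi : Function.Injective ξ := (injective_iff_map_eq_one ξ).2 fun v hv => by
    rcases ker_M v with h | h | ⟨u, h⟩
    · exact h
    · exact absurd (hZ.symm.trans (h ▸ hv)) c.es.ne_one
    · exact absurd (by rw [← hZ, ← h]; simp [hv]) c.es.ne_one
  refine ⟨ξ, hi, eq_of_le_of_card_ge ?_ ?_, hZ, fun v => ?_⟩
  · rintro _ ⟨v, rfl⟩
    refine (eq_top_of_genB genM (S := Q.comap ξ) ?_).ge (mem_top v)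
    simp only [List.mem_cons, List.not_mem_nil, or_false]
    rintro _ (rfl | rfl | rfl | rfl | rfl | rfl) <;>
      (rw [mem_comap, hξ _ (by norm_num)]; exact (hg _ (by norm_num)).1)
  · rw [hQ, ← Nat.card_congr (MonoidHom.ofInjective hi).toEquiv, card_eq]
  · obtain ⟨s0, s1, s2, s3, s4, s5⟩ := sg_e
    refine DFunLike.congr_fun (hom_ext genM (φ := s.toMonoidHom.comp ξ) (ψ := ξ.comp sg) ?_) v
    simp only [List.mem_cons, List.not_mem_nil, or_false]
    rintro _ (rfl | rfl | rfl | rfl | rfl | rfl) <;>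
      simp (disch := norm_num) only [MonoidHom.comp_apply, s0, s1, s2, s3, s4, s5, map_mul, hξ]
    exacts [rfl, rfl, rx, ry, rfl, rfl]

end CfsgLib.Held.X

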