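import Mathlib
import Cfsg.Agent.Lib.Held.X1
import Cfsg.Agent.Lib.MType.Odd
import Cfsg.Agent.Lib.Classical.SLCard

/-!
# Extensions of the extraspecial group `2^{1+6}` by `SL(3, 2)`: frames
-/

set_option autoImplicit false
set_option Elab.async false
set_option maxRecDepth 100000
set_option synthInstance.maxSize 100000

namespace CfsgLib.Held.X

open CfsgLib.W2 CfsgLib.W2.TG CfsgLib.ExtraTwo CfsgLib.LargeExtra Subgroup Matrix

/-- the special linear group of degree three over the field with two elements -/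
abbrev L := SpecialLinearGroup (Fin 3) (ZMod 2)

def a0 : L := ⟨!![0, 0, 1; 1, 0, 1; 0, 1, 0], by decide +kernel⟩
def b0 : L := ⟨!![1, 0, 0; 0, 0, 1; 0, 1, 1], by decide +kernel⟩
def u0 : L := ⟨!![1, 0, 0; 0, 0, 1; 0, 1, 0], by decide +kernel⟩

theorem factsL : a0 ^ 7 = 1 ∧ a0 ≠ 1 ∧ b0 ^ 3 = 1 ∧ b0 * a0 = a0 ^ 2 * b0 ∧ u0 * b0 = b0 ^ 2 * u0 ∧
    u0 * u0 = 1 ∧ (u0 * a0) ^ 3 = 1 := by decide +kernel

theorem exists_lift {H K : Type*} [Group H] [Finite H] [Group K] {ψ : H →* K}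
    (hs : Function.Surjective ψ) {p : ℕ} (hp : p.Prime) (hN : ¬ p ∣ Nat.card ψ.ker) {c d : H}
    (hc : c ^ p = 1) (hd : d ^ p = 1) {g0 : K} (h : g0 * ψ c = ψ d * g0) :
    ∃ g, ψ g = g0 ∧ g * c = d * g := by
  obtain ⟨g, rfl⟩ := hs g0
  obtain ⟨s, h1, h2⟩ := MType.exists_conj_of_coset (N := ψ.ker) hp hN (g := g * c * g⁻¹) (b := d)
    (by rw [conj_pow, hc]; simp) hd fun s hs => by
      rw [MonoidHom.mem_ker] at hs ⊢
      simp [hs, h]
  refine ⟨s⁻¹ * g, by rw [map_mul, map_inv, MonoidHom.mem_ker.1 h1]; simp, ?_⟩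
  calc s⁻¹ * g * c = s⁻¹ * (g * c * g⁻¹ * s) * s⁻¹ * g := by group
    _ = d * (s⁻¹ * g) := by rw [h2]; group

variable {G : Type*} [Group G] {Q : Subgroup G} {z : G}

/-- the standing hypothesis -/
structure Hyp (Q : Subgroup G) (z : G) (ψ : centralizer ({z} : Set G) →* L) : Prop where
  pre : Pre Q z
  card : Nat.card Q = 128
  surj : Function.Surjective ψ
  ker : ∀ g, ψ g = 1 ↔ (g : G) ∈ Q

/-- a frame -/
structure Fr (Q : Subgroup G) (z : G) (ψ : centralizer ({z} : Set G) →* L) (k : Fin 3) (w : M) where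
  ξ : M →* G
  a : centralizer ({z} : Set G)
  b : centralizer ({z} : Set G)
  u : centralizer ({z} : Set G)
  inj : Function.Injective ξ
  range : ξ.range = Q
  hz : ξ Z = z
  ψa : ψ a = a0
  ψb : ψ b = b0
  ψu : ψ u = u0
  a7 : a ^ 7 = 1
  b3 : b ^ 3 = 1
  ba : b * a = a ^ 2 * b
  ub : u * b = b ^ 2 * u
  ua : (u * a) ^ 3 = 1
  ca : ∀ v, (a : G) * ξ v * (a : G)⁻¹ = ξ (sg v)
  cb : ∀ v, (b : G) * ξ v * (b : G)⁻¹ = ξ (bt v)
  cu : ∀ v, (u : G) * ξ v * (u : G)⁻¹ = ξ (mu k v)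
  uu : (u : G) * u = ξ w
  hw : w = 1 ∨ w = Z

theorem exists_act (pre : Pre Q z) {ξ : M →* G} (hi : Function.Injective ξ) (hr : ξ.range = Q)
    (hz : ξ Z = z) (g : centralizer ({z} : Set G)) :
    ∃ f : M →* M, f Z = Z ∧ ∀ v, (g : G) * ξ v * (g : G)⁻¹ = ξ (f v) := by
  have h : ∀ v, ∃ v', (g : G) * ξ v * (g : G)⁻¹ = ξ v' := fun v => by
    obtain ⟨v', e⟩ := hr.ge (pre.norm g (mem_cent.1 g.2) _ (hr.le ⟨v, rfl⟩))
    exact ⟨v', e.symm⟩
  choose f hf using h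
  refine ⟨MonoidHom.mk' f fun x y => hi ?_, hi ?_, hf⟩
  · rw [map_mul, ← hf, ← hf, ← hf, map_mul]; group
  · exact (hf Z).symm.trans (by rw [hz, conj_eq_of_comm (mem_cent.1 g.2)])

theorem e_facts : e 1 = sg (e 0) ∧ e 2 = sg^[2] (e 0) ∧ e 4 = sg^[5] (e 3) ∧ e 5 = sg^[6] (e 3) ∧
    sg^[3] (e 0) = e 0 * e 1 ∧ sg (e 3) = e 3 * e 4 ∧ e 0 * e 3 = e 3 * e 0 * Z ∧
    e 1 * e 3 = e 3 * e 1 ∧ e 2 * e 3 = e 3 * e 2 ∧ ∀ j < 7, sg^[j] Z = Z ∧
      Function.LeftInverse sg^[7 - j] sg^[j] := by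
  unfold Function.LeftInverse
  decide +kernel

theorem e_facts' : bt (e 0) = e 0 ∧ bt (e 3) = e 3 ∧ e 2 = bt (e 1) ∧ e 5 = bt (bt (e 4)) ∧
    (e 0 * e 0 = 1 ∧ e 3 * e 3 = 1 ∧ e 1 * e 1 = 1 ∧ e 4 * e 4 = 1) ∧ e 0 * e 3 = e 3 * e 0 * Z ∧
    e 1 * e 0 = e 0 * e 1 ∧ e 1 * e 3 = e 3 * e 1 ∧ e 4 * e 0 = e 0 * e 4 ∧ e 4 * e 3 = e 3 * e 4 ∧
    e 1 * e 4 = e 4 * e 1 * Z ∧ e 1 * e 5 = e 5 * e 1 ∧ e 1 * e 2 = bt (bt (e 1)) ∧
    e 4 * e 5 = bt (e 4) ∧ (∀ v, bt (bt (bt v)) = v) ∧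
    (∀ w : M, ∀ i < 6, (w * e i * w⁻¹ * e i).v % 64 = 0) ∧
    ∀ k v, mu k (mu k v) = v ∧ mu k (sg (mu k (sg (mu k (sg v))))) = v := by decide +kernel

theorem Hyp.exists_fr [Finite G] {ψ : centralizer ({z} : Set G) →* L} (h : Hyp Q z ψ) :
    ∃ k w, Nonempty (Fr Q z ψ k w) := by
  obtain ⟨l1, l2, l3, l4, l5, l6, l7⟩ := factsL
  have hk : Nat.card ψ.ker = 128 := by
    rw [← h.card, ← card_amb, show ψ.ker = Q.subgroupOf _ from Subgroup.ext h.ker,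
      h.pre.amb_subgroupOf]
  have h4 : ∀ x, ψ x = 1 → x ^ 4 = 1 := fun x hx =>
    Subtype.ext (h.pre.es.pow_four ((h.ker x).1 hx))
  obtain ⟨a, ψa, a7⟩ : ∃ a, ψ a = a0 ∧ a ^ 7 = 1 := by
    obtain ⟨a, ha⟩ := h.surj a0
    refine ⟨a ^ 8, by rw [map_pow, ha, pow_succ, l1, one_mul], ?_⟩
    rw [← pow_mul, show 8 * 7 = 7 * 4 * 2 from rfl, pow_mul, pow_mul,
      h4 _ (by rw [map_pow, ha, l1]), one_pow]
  obtain ⟨b, ψb, b3, ba⟩ : ∃ b, ψ b = b0 ∧ b ^ 3 = 1 ∧ b * a = a ^ 2 * b := by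
    obtain ⟨b, hb, e⟩ := exists_lift h.surj (p := 7) (by norm_num) (by rw [hk]; norm_num) a7
      (d := a ^ 2) (by rw [← pow_mul, mul_comm, pow_mul, a7, one_pow]) (g0 := b0)
      (by rw [map_pow, ψa, l4])
    refine ⟨b ^ 4, by rw [map_pow, hb, pow_succ, l3, one_mul], by
      rw [← pow_mul, mul_comm, pow_mul, h4 _ (by rw [map_pow, hb, l3])], ?_⟩
    have e1 : SemiconjBy b a (a ^ 2) := e
    have e2 := e1.pow_right 2
    have e3 := e2.pow_right 2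
    have e4 := e3.pow_right 2
    have e5 := (e4.mul_left e3).mul_left (e2.mul_left e1)
    rw [← pow_mul, ← pow_mul, ← pow_mul, show 2 * (2 * (2 * 2)) = 7 * 2 + 2 from rfl, pow_add,
      pow_mul, a7, one_pow, one_mul] at e5
    simpa [pow_succ, mul_assoc] using e5.eq
  obtain ⟨u, ψu, ub⟩ := exists_lift h.surj (p := 3) (by norm_num) (by rw [hk]; norm_num) b3
    (d := b ^ 2) (by rw [← pow_mul, mul_comm, pow_mul, b3, one_pow]) (g0 := u0)
    (by rw [map_pow, ψb, l5])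
  obtain ⟨ξ, hi, hr, hz, ca, cb⟩ : ∃ ξ : M →* G, Function.Injective ξ ∧ ξ.range = Q ∧ ξ Z = z ∧
      (∀ v, (a : G) * ξ v * (a : G)⁻¹ = ξ (sg v)) ∧ ∀ v, (b : G) * ξ v * (b : G)⁻¹ = ξ (bt v) := by
    obtain ⟨ξ, hi, hr, hz, ca⟩ := exists_xi h.pre h.card (mem_cent.1 a.2)
      (congrArg Subtype.val a7) fun e => l2 (ψa ▸ (h.ker a).2 e)
    obtain ⟨f, fz, cb⟩ := exists_act h.pre hi hr hz b
    have hs : Function.Semiconj f sg s2 := fun v => hi (by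
      have : (b : G) * a = a * a * b := by rw [← pow_two]; exact congrArg Subtype.val ba
      rw [s2, ← cb, ← ca, ← ca, ← ca, ← cb]
      calc _ = (b : G) * a * ξ v * ((b : G) * a)⁻¹ := by group
        _ = _ := by rw [this]; group)
    obtain ⟨e1, e2, e4, e5, e6, e7, e8, e9, e10, e11⟩ := e_facts
    have f1 : f (e 1) = s2 (f (e 0)) := by rw [e1, hs]
    have f2 : f (e 2) = s2^[2] (f (e 0)) := by rw [e2, hs.iterate_right]
    have f4 : f (e 4) = s2^[5] (f (e 3)) := by rw [e4, hs.iterate_right]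
    obtain ⟨j, hj, hv⟩ := key_b (f (e 0)) (by rw [← hs.iterate_right, e6, map_mul, f1]) (f (e 3))
      (by rw [← hs, e7, map_mul, f4]) (by rw [← fz, ← map_mul, e8, map_mul, map_mul])
      (by rw [← f1, ← map_mul, e9, map_mul]) (by rw [← f2, ← map_mul, e10, map_mul])
    obtain ⟨τ, hτ⟩ : ∃ τ : M →* M, ∀ v, τ v = sg^[j] v :=
      ⟨(show Monoid.End M from sg) ^ j, congrFun (Monoid.End.coe_pow _ _ _)⟩
    have hb : Function.Bijective τ := (funext hτ : ⇑τ = _) ▸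
      Finite.injective_iff_bijective.1 (e11 j hj).2.injective
    refine ⟨ξ.comp τ, hi.comp hb.1, ?_, ?_, fun v => ?_, fun v => ?_⟩
    · rw [MonoidHom.range_comp, MonoidHom.range_eq_top.2 hb.2, ← MonoidHom.range_eq_map, hr]
    · rw [MonoidHom.comp_apply, ← hz]; exact congrArg ξ ((hτ Z).trans (e11 j hj).1)
    · show _ * ξ (τ v) * _ = ξ (τ (sg v))
      rw [ca, hτ, hτ, ← Function.iterate_succ_apply, Function.iterate_succ_apply']
    · show _ * ξ (τ v) * _ = ξ (τ (bt v))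
      rw [cb, hτ, hτ, ← hv, map_eq_au f fz, f1, f2, f4, e5, hs.iterate_right]
  obtain ⟨f, fz, cu⟩ := exists_act h.pre hi hr hz u
  have hs : ∀ v, f (bt v) = bt (bt (f v)) := fun v => hi (by
    have : (u : G) * b = b * b * u := by rw [← pow_two]; exact congrArg Subtype.val ub
    rw [← cu, ← cb, ← cb, ← cb, ← cu]
    calc _ = (u : G) * b * ξ v * ((u : G) * b)⁻¹ := by group
      _ = _ := by rw [this]; group)
  obtain ⟨e0, e3, e2, e5, ⟨q0, q3, q1, q4⟩, c1, c2, c3, c4, c5, c6, c7, c8, c9, t3, hw, hm⟩ := e_facts'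
  have f2 : f (e 2) = bt (bt (f (e 1))) := by rw [e2, hs]
  have f5 : f (e 5) = bt (f (e 4)) := by rw [e5, hs, hs, t3]
  have hf : au (f (e 0)) (f (e 1)) (bt (bt (f (e 1)))) (f (e 3)) (f (e 4)) (bt (f (e 4))) = f :=
    funext fun v => by rw [map_eq_au f fz v, f2, f5]
  have sq : ∀ {x}, x * x = 1 → f x * f x = 1 := fun e => by rw [← map_mul, e, map_one]
  have cm : ∀ {x y}, x * y = y * x → f x * f y = f y * f x := fun e => by
    rw [← map_mul, e, map_mul]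
  have inn : ∀ (g : centralizer ({z} : Set G)) (F : M → M), ψ g = 1 →
      (∀ v, (g : G) * ξ v * (g : G)⁻¹ = ξ (F v)) → ∀ i < 6, (F (e i) * e i).v % 64 = 0 :=
    fun g F hg hF i hi' => by
      obtain ⟨w, e⟩ := hr.ge ((h.ker g).1 hg)
      rw [hi ((hF _).symm.trans (by rw [← e, ← map_inv, ← map_mul, ← map_mul]))]
      exact hw w i hi'
  obtain ⟨c, hc, k, hk⟩ := key_u (f (e 0)) (by rw [← hs, e0]) (sq q0) (f (e 3)) (by rw [← hs, e3])
    (sq q3) (by rw [← fz, ← map_mul, c1, map_mul, map_mul]) (f (e 1)) (sq q1) (cm c2) (cm c3)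
    (by rw [← f2, ← map_mul, c8, hs, hs, t3]) (f (e 4)) (sq q4) (cm c4) (cm c5)
    (by rw [← hs, ← c9, map_mul, f5]) (by rw [← fz, ← map_mul, c6, map_mul, map_mul])
    (f5 ▸ cm c7)
    (by rw [hf]; exact inn (u * u) _ (by rw [map_mul, ψu, l6]) fun v => by
          simp only [Function.iterate_succ, Function.comp, Function.iterate_zero, id, ← cu,
            Subgroup.coe_mul]; group)
    (by rw [hf]; exact inn ((u * a) ^ 3) _ (by rw [map_pow, map_mul, ψu, ψa, l7]) fun v => by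
          simp only [Function.iterate_succ, Function.comp, Function.iterate_zero, id, ← cu, ← ca,
            Subgroup.coe_mul, pow_succ, pow_zero, one_mul]; group)
  rw [hf] at hk
  have key : ∀ c : M, bt c = c → (∀ v, c * f v * c⁻¹ = mu k v) → ∃ u' : centralizer ({z} : Set G),
      (u' : G) = ξ c * u ∧ ψ u' = u0 ∧ u' * b = b ^ 2 * u' ∧
        ∀ v, (u' : G) * ξ v * (u' : G)⁻¹ = ξ (mu k v) := fun c hc hk => by
    let c' : centralizer ({z} : Set G) := ⟨ξ c, h.pre.le_cent (hr.le ⟨c, rfl⟩)⟩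
    have : Commute b c' := Subtype.ext (comm_of_conj_eq ((cb c).trans (congrArg ξ hc)))
    refine ⟨c' * u, rfl, by rw [map_mul, (h.ker c').2 (hr.le ⟨c, rfl⟩), one_mul, ψu], by
      rw [mul_assoc, ub, ← mul_assoc, ← (this.pow_left 2).eq, mul_assoc], fun v => ?_⟩
    rw [← hk, map_mul, map_mul, map_inv, ← cu]
    simp only [c', Subgroup.coe_mul]; group
  have cen : ∀ g : G, (∀ v, g * ξ v * g⁻¹ = ξ v) → g = 1 ∨ g = z := fun g hg =>
    h.pre.cent g fun q hq => by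
      obtain ⟨v, rfl⟩ := hr.ge hq
      exact (comm_of_conj_eq (hg v)).symm
  have fin : ∀ u' : centralizer ({z} : Set G), ψ u' = u0 → u' * b = b ^ 2 * u' →
      (∀ v, (u' : G) * ξ v * (u' : G)⁻¹ = ξ (mu k v)) → (u' * a) ^ 3 = 1 →
      ∃ k w, Nonempty (Fr Q z ψ k w) := fun u' p1 p2 p3 p4 => by
    rcases cen (u' * u') fun v => by
      conv_rhs => rw [← (hm k v).1, ← p3, ← p3]
      group with e | e
    · exact ⟨k, 1, ⟨⟨ξ, a, b, u', hi, hr, hz, ψa, ψb, p1, a7, b3, ba, p2, p4, ca, cb, p3,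
        e.trans (map_one ξ).symm, Or.inl rfl⟩⟩⟩
    · exact ⟨k, Z, ⟨⟨ξ, a, b, u', hi, hr, hz, ψa, ψb, p1, a7, b3, ba, p2, p4, ca, cb, p3,
        e.trans hz.symm, Or.inr rfl⟩⟩⟩
  obtain ⟨u1, d1, p1, p2, p3⟩ := key c hc hk
  rcases cen ((u1 * a) ^ 3) fun v => by
    conv_rhs => rw [← (hm k v).2, ← p3, ← ca, ← p3, ← ca, ← p3, ← ca]
    simp only [pow_succ, pow_zero, one_mul]; group with e | e
  · exact fin u1 p1 p2 p3 (Subtype.ext e)
  · have hZ : ∀ v : M, Z * v * Z⁻¹ = v := by decide +kernel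
    obtain ⟨u2, d2, r1, r2, r3⟩ := key (Z * c) (by rw [map_mul, hc]; congr 1)
      fun v => by rw [← hk, ← hZ (c * _ * _)]; group
    refine fin u2 r1 r2 r3 (Subtype.ext ?_)
    have : Commute z ((u1 : G) * a) := (mem_cent.1 (u1 * a).2).symm
    show ((u2 : G) * a) ^ 3 = 1
    rw [d2, map_mul, hz, mul_assoc z, ← d1, mul_assoc, this.mul_pow, e, ← pow_succ,
      h.pre.es.pow_four h.pre.es.mem]

end CfsgLib.Held.X
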