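import Mathlib
import Cfsg.Agent.Lib.Held.X2
import Cfsg.Agent.Lib.Held.Models

/-!
# Extensions of the extraspecial group `2^{1+6}` by `SL(3, 2)`: the split case
-/

set_option autoImplicit false
set_option Elab.async false
set_option maxRecDepth 100000
set_option synthInstance.maxSize 100000

namespace CfsgLib.Held.X

open CfsgLib.W2 CfsgLib.W2.TG CfsgLib.SylT CfsgLib.ExtraTwo CfsgLib.LargeExtra Subgroup Matrix

theorem card_le_168 {X : Type*} [Group X] {a b u : X} (a7 : a ^ 7 = 1) (b3 : b ^ 3 = 1)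
    (ba : b * a = a ^ 2 * b) (uu : u * u = 1) (ub : u * b = b ^ 2 * u) (ua : (u * a) ^ 3 = 1) :
    Finite (closure ({a, b, u} : Set X)) ∧ Nat.card (closure ({a, b, u} : Set X)) ≤ 168 := by
  let B := fun g : X => ∃ k j : ℕ, g = a ^ k * b ^ j
  let P := fun g : X => B g ∨ ∃ x y, B x ∧ B y ∧ g = x * u * y
  have h1 : ∀ j k : ℕ, b ^ j * a ^ k = a ^ (2 ^ j * k) * b ^ j := fun j k => by
    induction j with
    | zero => simp
    | succ j ih => rw [pow_succ', mul_assoc, ih, ← mul_assoc, (SemiconjBy.pow_right ba _).eq,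
        ← pow_mul, mul_assoc, pow_succ' 2, mul_assoc 2]
  have hB : ∀ {x y}, B x → B y → B (x * y) := by
    rintro _ _ ⟨k, j, rfl⟩ ⟨k', j', rfl⟩
    exact ⟨k + 2 ^ j * k', j + j', by rw [mul_assoc, ← mul_assoc (b ^ j), h1, pow_add, pow_add]; group⟩
  have Ba : ∀ k, B (a ^ k) := fun k => ⟨k, 0, by simp⟩
  have Bb : ∀ k, B (b ^ k) := fun k => ⟨0, k, by simp⟩
  have hl : ∀ {x g}, B x → P g → P (x * g) := by
    rintro x _ hx (h | ⟨y, y', h, h', rfl⟩)
    exacts [Or.inl (hB hx h), Or.inr ⟨_, _, hB hx h, h', by group⟩]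
  have hr : ∀ {x g}, B x → P g → P (g * x) := by
    rintro x _ hx (h | ⟨y, y', h, h', rfl⟩)
    exacts [Or.inl (hB h hx), Or.inr ⟨_, _, h, hB h' hx, by group⟩]
  have ui : u⁻¹ = u := inv_eq_of_mul_eq_one_right uu
  have ai : a⁻¹ = a ^ 6 := inv_eq_of_mul_eq_one_right (by rw [← pow_succ', a7])
  have bi : b⁻¹ = b ^ 2 := inv_eq_of_mul_eq_one_right (by rw [← pow_succ', b3])
  have h2 : ∀ j : ℕ, b ^ j * u = u * b ^ (2 * j) := fun j => by
    have : SemiconjBy u (b ^ 2) b := by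
      have := SemiconjBy.pow_right ub 2
      rwa [← pow_mul, show 2 * 2 = 3 + 1 from rfl, pow_succ _ 3, b3, one_mul] at this
    rw [pow_mul, (this.pow_right j).eq]
  have d : ∀ i, P (u * a ^ i * u) → P (u * a ^ (2 * i) * u) := fun i h => by
    have e1 : b ^ 1 * a ^ i = a ^ (2 * i) * b ^ 1 := h1 1 i
    have e : b ^ 2 * (u * a ^ i * u) * b ^ 1 = u * a ^ (2 * i) * u :=
      calc _ = b ^ 2 * u * a ^ i * (u * b) := by group
        _ = u * b * a ^ i * (b ^ 2 * u) := by rw [← ub]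
        _ = u * (b ^ 1 * a ^ i) * b ^ 2 * u := by group
        _ = u * a ^ (2 * i) * b ^ 3 * u := by rw [e1]; group
        _ = _ := by rw [b3, mul_one]
    exact e ▸ hr (Bb 1) (hl (Bb 2) h)
  have e : u * a * u = a⁻¹ * u * a⁻¹ := by
    rw [← ui, ← mul_inv_eq_one, ← ua, ui]; simp [pow_succ, mul_assoc, ui]
  have t1 : P (u * a ^ 1 * u) := Or.inr ⟨_, _, Ba 6, Ba 6, by rw [pow_one, e, ai]⟩
  have t6 : P (u * a ^ 6 * u) := Or.inr ⟨_, _, Ba 1, Ba 1, by
    rw [← ai, ← _root_.inv_inj]; simp [ui, ← mul_assoc, e]⟩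
  have t : ∀ i, P (u * a ^ i * u) := fun i => by
    have t5 := d _ t6
    have t3 := d _ t5
    rw [pow_eq_pow_mod _ a7] at t5 t3 ⊢
    have : i % 7 < 7 := Nat.mod_lt _ (by norm_num)
    generalize i % 7 = i at this
    interval_cases i
    exacts [Or.inl ⟨0, 0, by simp [uu]⟩, t1, d _ t1, t3, d _ (d _ t1), t5, t6]
  have nf : ∀ {g}, P g → B g ∨ ∃ i : ℕ, ∃ y, B y ∧ g = a ^ i * u * y := by
    rintro _ (h | ⟨_, y, ⟨i, j, rfl⟩, h, rfl⟩)
    exacts [Or.inl h, Or.inr ⟨i, _, hB (Bb (2 * j)) h, by rw [mul_assoc _ _ u, h2]; group⟩]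
  have hu : ∀ {g}, P g → P (u * g) := fun h => by
    rcases nf h with h' | ⟨i, y, h', rfl⟩
    exacts [Or.inr ⟨_, _, Ba 0, h', by simp⟩, by simpa only [mul_assoc] using hr h' (t i)]
  let f : Option (Fin 7) × Fin 7 × Fin 3 → X := fun p =>
    p.1.elim 1 (fun i => a ^ i.val * u) * (a ^ p.2.1.val * b ^ p.2.2.val)
  have hf : ((closure ({a, b, u} : Set X) : Subgroup X) : Set X) ⊆ Set.range f := fun g hg => by
    have : P g := by
      refine closure_induction_left (p := fun g _ => P g) (Or.inl ⟨0, 0, by simp⟩) ?_ ?_ hg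
      · rintro _ (rfl | rfl | rfl) y _ h
        exacts [hl ⟨1, 0, by simp⟩ h, hl ⟨0, 1, by simp⟩ h, hu h]
      · rintro _ (rfl | rfl | rfl) y _ h
        exacts [ai ▸ hl (Ba 6) h, bi ▸ hl (Bb 2) h, ui.symm ▸ hu h]
    rcases nf this with ⟨k, j, rfl⟩ | ⟨i, _, ⟨k, j, rfl⟩, rfl⟩
    · exact ⟨(none, ⟨k % 7, Nat.mod_lt _ (by norm_num)⟩, ⟨j % 3, Nat.mod_lt _ (by norm_num)⟩), by
        simp [f, ← pow_eq_pow_mod _ a7, ← pow_eq_pow_mod _ b3]⟩
    · exact ⟨(some ⟨i % 7, Nat.mod_lt _ (by norm_num)⟩, ⟨k % 7, Nat.mod_lt _ (by norm_num)⟩,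
        ⟨j % 3, Nat.mod_lt _ (by norm_num)⟩), by
        simp [f, ← pow_eq_pow_mod _ a7, ← pow_eq_pow_mod _ b3]⟩
  exact ⟨(Set.finite_range f).subset hf, (Set.ncard_le_ncard hf (Set.finite_range f)).trans
    ((Finite.card_range_le f).trans (by simp))⟩

theorem closure_L : Subgroup.closure ({a0, b0, u0} : Set L) = ⊤ :=
  Classical.sl_eq_top_of_transvection_mem _ fun i j h c => by
    have ha : a0 ∈ Subgroup.closure ({a0, b0, u0} : Set L) := Subgroup.subset_closure (by simp)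
    have hb : b0 ∈ Subgroup.closure ({a0, b0, u0} : Set L) := Subgroup.subset_closure (by simp)
    have hu : u0 ∈ Subgroup.closure ({a0, b0, u0} : Set L) := Subgroup.subset_closure (by simp)
    have : SpecialLinearGroup.transvection h c ∈ [1, b0 * a0 * b0 * a0 * u0 * a0,
      a0 * b0 * a0 * u0 * a0 * b0, b0 * u0 * a0 * a0 * a0 * u0 * a0, u0 * b0,
      a0 * u0 * a0 * b0 * a0 * a0, b0 * u0] := by revert i j c; decide +kernel
    simp only [List.mem_cons, List.not_mem_nil, or_false] at this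
    rcases this with e | e | e | e | e | e | e <;> rw [e] <;>
      apply_rules (maxDepth := 30) [mul_mem, one_mem]

theorem conj_of_words {X : Type*} [Group X] {ξ : M →* X} {x : ℕ → X} (hξ : ∀ i < 7, ξ (e i) = x i)
    (f : M →* M) (W : List (List ℕ))
    (h1 : ∀ i < 6, f (e i) = ew e (W.getD i []) ∧ ∀ k ∈ W.getD i [], k < 7) {g : X}
    (h2 : ∀ i < 6, g * x i = ew x (W.getD i []) * g) (v : M) : g * ξ v * g⁻¹ = ξ (f v) := by
  refine DFunLike.congr_fun (hom_ext genM (φ := (MulAut.conj g).toMonoidHom.comp ξ)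
    (ψ := ξ.comp f) fun p hp => ?_) v
  obtain ⟨i, hi, rfl⟩ : ∃ i < 6, p = e i := by revert p; decide +kernel
  show g * ξ (e i) * g⁻¹ = ξ (f (e i))
  rw [hξ i (by omega), h2 i hi, mul_inv_cancel_right, (h1 i hi).1, map_ew, ew, ew,
    List.map_congr_left fun k hk => hξ k ((h1 i hi).2 k hk)]

/-- the generators of the extraspecial group in `SL(5, 2)` -/
def x1 (i : ℕ) : SL5 := [⟨transvection 2 1 1, by decide +kernel⟩,
  ⟨transvection 3 1 1, by decide +kernel⟩, ⟨transvection 4 1 1, by decide +kernel⟩,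
  ⟨transvection 0 2 1, by decide +kernel⟩, ⟨transvection 0 3 1, by decide +kernel⟩,
  ⟨transvection 0 4 1, by decide +kernel⟩, s0].getD i 1

def a1 : SL5 := ⟨Cfsg.Agent.S0445.mat 1 1 0 0 a0.1, by decide +kernel⟩
def b1 : SL5 := ⟨Cfsg.Agent.S0445.mat 1 1 0 0 b0.1, by decide +kernel⟩
def u1 : SL5 := ⟨Cfsg.Agent.S0445.mat 1 1 0 0 u0.1, by decide +kernel⟩

theorem facts1 : a1 ^ 7 = 1 ∧ b1 ^ 3 = 1 ∧ b1 * a1 = a1 ^ 2 * b1 ∧ u1 * u1 = 1 ∧
    u1 * b1 = b1 ^ 2 * u1 ∧ (u1 * a1) ^ 3 = 1 ∧ a1 * s0 = s0 * a1 ∧ b1 * s0 = s0 * b1 ∧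
    u1 * s0 = s0 * u1 ∧ s0 ≠ 1 := by decide +kernel

theorem exists_xi1 : ∃ ξ : M →* SL5, Function.Injective ξ ∧ ξ Z = s0 ∧
    (∀ v, a1 * ξ v * a1⁻¹ = ξ (sg v)) ∧ (∀ v, b1 * ξ v * b1⁻¹ = ξ (bt v)) ∧
    ∀ v, u1 * ξ v * u1⁻¹ = ξ (mu 0 v) := by
  obtain ⟨ξ, hξ⟩ := exists_hom_pc (x := x1) (g := e) (n := 7) (sq := fun _ => []) (cj := cw)
    (by decide) (by decide +kernel) (by decide +kernel) (by rw [card_eq]; norm_num)
    fun S hS => eq_top_of_genB genM (by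
      simp only [List.mem_cons, List.not_mem_nil, or_false]
      rintro _ (rfl | rfl | rfl | rfl | rfl | rfl) <;> exact hS _ (by norm_num))
  have hZ : ξ Z = s0 := hξ 6 (by norm_num)
  have h0 := facts1.2.2.2.2.2.2.2.2.2
  refine ⟨ξ, (injective_iff_map_eq_one ξ).2 fun v hv => ?_, hZ,
    conj_of_words hξ sg [[1], [2], [0, 1], [3, 4], [5], [3]] (by decide +kernel) (by decide +kernel),
    conj_of_words hξ bt [[0], [2], [1, 2], [3], [4, 5], [4]] (by decide +kernel) (by decide +kernel),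
    conj_of_words hξ (hT (muT 0) (by decide +kernel)) [[0], [2], [1], [3], [5], [4]]
      (by decide +kernel) (by decide +kernel)⟩
  rcases ker_M v with h | h | ⟨u, h⟩
  · exact h
  · exact absurd (hZ.symm.trans (h ▸ hv)) h0
  · exact absurd (by rw [← hZ, ← h]; simp [hv]) h0

variable {G : Type*} [Group G] {Q : Subgroup G} {z : G} {ψ : centralizer ({z} : Set G) →* L}

theorem Hyp.card_cent (h : Hyp Q z ψ) : Nat.card (centralizer ({z} : Set G)) = 21504 := by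
  rw [← ψ.ker.card_mul_index, index_ker, MonoidHom.range_eq_top.2 h.surj, card_top,
    Classical.sl3_card, ZMod.card, ← card_amb, show ψ.ker = Q.subgroupOf _ from Subgroup.ext h.ker,
    h.pre.amb_subgroupOf, h.card]
  rfl

theorem Fr.iso [Finite G] (h : Hyp Q z ψ) (F : Fr Q z ψ 0 1) :
    Nonempty (centralizer ({z} : Set G) ≃* centralizer ({s0} : Set SL5)) := by
  obtain ⟨ξ1, hi, hZ, ca, cb, cu⟩ := exists_xi1
  obtain ⟨f1, f2, f3, f4, f5, f6, f7, f8, f9, f10⟩ := facts1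
  let ξ : M →* centralizer ({z} : Set G) :=
    F.ξ.codRestrict _ fun v => h.pre.le_cent (F.range.le ⟨v, rfl⟩)
  let N := (ξ.prod ξ1).range
  let K := Subgroup.closure ({(F.a, a1), (F.b, b1), (F.u, u1)} : Set (centralizer ({z} : Set G) × SL5))
  obtain ⟨-, hK⟩ : _ ∧ Nat.card K ≤ 168 := card_le_168 (Prod.ext F.a7 f1) (Prod.ext F.b3 f2)
    (Prod.ext F.ba f3) (Prod.ext (Subtype.ext (F.uu.trans (map_one _))) f4) (Prod.ext F.ub f5)
    (Prod.ext F.ua f6)
  have hN : K ≤ normalizer (N : Set _) := (closure_le _).2 (by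
    rintro _ (rfl | rfl | rfl) <;> refine Core.mem_normalizer_of_forall_conj_mem ?_ <;>
      rintro _ ⟨v, rfl⟩
    exacts [⟨_, Prod.ext (Subtype.ext (F.ca v).symm) (ca v).symm⟩,
      ⟨_, Prod.ext (Subtype.ext (F.cb v).symm) (cb v).symm⟩,
      ⟨_, Prod.ext (Subtype.ext (F.cu v).symm) (cu v).symm⟩])
  let χ : K →* L := (ψ.comp (MonoidHom.fst _ _)).comp K.subtype
  have hχ : Function.Surjective χ := MonoidHom.range_eq_top.1 (by
    rw [MonoidHom.range_comp, range_subtype, MonoidHom.map_closure, ← closure_L]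
    simp [Set.image_insert_eq, F.ψa, F.ψb, F.ψu])
  have hχ' := (hχ.bijective_of_nat_card_le (by rwa [Classical.sl3_card, ZMod.card])).1
  have h2 : ∀ x, (1, x) ∈ N ⊔ K → x = 1 := fun x hx => by
    obtain ⟨_, ⟨v, rfl⟩, k, hk, e⟩ := (Core.mem_sup_of_le_normalizer_left hN).1 hx
    have e1 : ξ v * k.1 = 1 := congrArg Prod.fst e
    have e2 : (⟨k, hk⟩ : K) = 1 := (injective_iff_map_eq_one χ).1 hχ' _ (by
      have := congrArg ψ e1
      rwa [map_mul, (h.ker (ξ v)).2 (F.range.le ⟨v, rfl⟩), one_mul, map_one] at this)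
    obtain rfl : k = 1 := congrArg Subtype.val e2
    obtain rfl : v = 1 := F.inj ((congrArg Subtype.val ((mul_one _).symm.trans e1)).trans
      (map_one _).symm)
    simpa using (congrArg Prod.snd e).symm
  obtain ⟨φ⟩ := iso_of_pair (Γ := N ⊔ K) (fun g => by
    obtain ⟨k, hk⟩ := hχ (ψ g)
    obtain ⟨v, hv⟩ := F.range.ge ((h.ker (g * k.1.1⁻¹)).1 (by
      rw [map_mul, map_inv, ← hk]; exact mul_inv_cancel _))
    rw [← show ξ v * k.1.1 = g from eq_mul_inv_iff_mul_eq.1 (Subtype.ext hv)]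
    exact ⟨_, mul_mem_sup (show (ξ.prod ξ1) v ∈ N from ⟨v, rfl⟩) k.2⟩) h2 fun g hg => by
    rcases h.pre.cent g fun q hq => by
      obtain ⟨v, rfl⟩ := F.range.ge hq
      obtain ⟨v', e⟩ := (mem_normalizer_iff.1 (sup_le le_normalizer hN hg) _).1 ⟨v, rfl⟩
      obtain rfl : v' = v := hi (by simpa using congrArg Prod.snd e)
      exact (comm_of_conj_eq (congrArg (fun p => (p.1 : G)) e).symm).symm with e | e
    · exact Subtype.ext e
    · have := mul_mem (inv_mem hg) (mem_sup_left ⟨Z, rfl⟩ : _ ∈ N ⊔ K)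
      rw [show ((g, (1 : SL5))⁻¹ * (ξ.prod ξ1) Z) = (1, s0) from Prod.ext
        (inv_mul_eq_one.2 (Subtype.ext (e.trans F.hz.symm))) (by simp [hZ])] at this
      exact absurd (h2 _ this) f10
  refine ⟨φ.trans (MulEquiv.subgroupCongr (eq_of_le_of_card_ge ?_ ?_))⟩
  · rw [map_le_iff_le_comap, sup_le_iff, closure_le]
    refine ⟨?_, ?_⟩
    · rintro _ ⟨v, rfl⟩
      have : ∀ v : M, v * Z = Z * v := by decide +kernel
      exact mem_cent.2 (show ξ1 v * s0 = s0 * ξ1 v by rw [← hZ, ← map_mul, this, map_mul])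
    · rintro _ (rfl | rfl | rfl)
      exacts [mem_cent.2 f7, mem_cent.2 f8, mem_cent.2 f9]
  · rw [← Nat.card_congr φ.toEquiv, h.card_cent, Cfsg.Agent.S0445.result s0 rfl]

end CfsgLib.Held.X
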