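import Mathlib
import Cfsg.Agent.Lib.Held.X3

/-!
# Extensions of the extraspecial group `2^{1+6}` by `SL(3, 2)`: finite facts
-/

set_option autoImplicit false
set_option Elab.async false
set_option maxRecDepth 100000
set_option synthInstance.maxSize 100000

namespace CfsgLib.Held.X

open Cfsg CfsgLib.W2 CfsgLib.W2.TG CfsgLib.ExtraTwo CfsgLib.LargeExtra Subgroup Matrix

theorem invol_L {g : L} (h : g * g = 1) (h1 : g ≠ 1) : ∃ k, k * g = u0 * k := by
  have key : ∀ a b c d e f g h i : ZMod 2,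
      !![a, b, c; d, e, f; g, h, i] * !![a, b, c; d, e, f; g, h, i] = 1 →
      !![a, b, c; d, e, f; g, h, i] = 1 ∨ ∃ j < 3, ∃ k < 7,
      (a0 ^ k * b0 ^ j).1 * !![a, b, c; d, e, f; g, h, i] = u0.1 * (a0 ^ k * b0 ^ j).1 := by
    decide +kernel
  have e := eta_fin_three g.1
  have := key _ _ _ _ _ _ _ _ _ (by rw [← e]; exact congrArg Subtype.val h)
  rw [← e] at this
  obtain ⟨j, -, k, -, h2⟩ := this.resolve_left fun h => h1 (Subtype.ext h)
  exact ⟨_, Subtype.ext h2⟩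

theorem root_L {g : L} (h : g * g = u0) : g = a0 * b0 * u0 * a0 ∨ g⁻¹ = a0 * b0 * u0 * a0 := by
  have key : ∀ a b c d e f g h i : ZMod 2,
      !![a, b, c; d, e, f; g, h, i] * !![a, b, c; d, e, f; g, h, i] = u0.1 →
      !![a, b, c; d, e, f; g, h, i] = (a0 * b0 * u0 * a0).1 ∨
      !![a, b, c; d, e, f; g, h, i] * (a0 * b0 * u0 * a0).1 = 1 := by decide +kernel
  have e := eta_fin_three g.1
  have := key _ _ _ _ _ _ _ _ _ (by rw [← e]; exact congrArg Subtype.val h)
  rw [← e] at this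
  exact this.imp Subtype.ext fun h => inv_eq_of_mul_eq_one_right (Subtype.ext h)

theorem four_L {X : Subgroup L} (h : ∀ g ∈ X, g * g = 1) : Nat.card X ≤ 4 := by
  have key : ∀ a b c d e f g h i : ZMod 2, ∀ A, A = !![a, b, c; d, e, f; g, h, i] → A * A = 1 →
      A * u0.1 * (A * u0.1) = 1 → A = 1 ∨ A = u0.1 ∨ ∀ a b c d e f g h i : ZMod 2,
      !![a, b, c; d, e, f; g, h, i] * !![a, b, c; d, e, f; g, h, i] = 1 →
      !![a, b, c; d, e, f; g, h, i] * u0.1 * (!![a, b, c; d, e, f; g, h, i] * u0.1) = 1 →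
      !![a, b, c; d, e, f; g, h, i] * A * (!![a, b, c; d, e, f; g, h, i] * A) = 1 →
      !![a, b, c; d, e, f; g, h, i] = 1 ∨ !![a, b, c; d, e, f; g, h, i] = u0.1 ∨
      !![a, b, c; d, e, f; g, h, i] = A ∨ !![a, b, c; d, e, f; g, h, i] = A * u0.1 := by
    simp only [forall_eq]
    decide +kernel
  by_cases h0 : ∀ g ∈ X, g = 1
  · exact card_le_four (a := 1) (b := 1) (c := 1) (d := 1) fun x hx => Or.inl (h0 x hx)
  push Not at h0
  obtain ⟨g, hg, h1⟩ := h0
  obtain ⟨k, hk⟩ := invol_L (h g hg) h1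
  rw [← card_map_conj X k]
  have hu : u0 ∈ X.map (MulAut.conj k).toMonoidHom := ⟨g, hg, mul_inv_eq_iff_eq_mul.2 hk⟩
  have h' : ∀ y ∈ X.map (MulAut.conj k).toMonoidHom, y * y = 1 := by
    rintro _ ⟨y, hy, rfl⟩; rw [← map_mul, h y hy, map_one]
  generalize X.map (MulAut.conj k).toMonoidHom = Y at hu h'
  by_cases h2 : ∀ y ∈ Y, y = 1 ∨ y = u0
  · exact card_le_four (a := 1) (b := u0) (c := 1) (d := 1) fun x hx => (h2 x hx).imp id Or.inl
  push Not at h2
  obtain ⟨y, hy, h3, h4⟩ := h2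
  have := ((key _ _ _ _ _ _ _ _ _ _ (eta_fin_three y.1) (congrArg Subtype.val (h' y hy))
    (congrArg Subtype.val (h' _ (mul_mem hy hu)))).resolve_left
      fun e => h3 (Subtype.ext e)).resolve_left fun e => h4 (Subtype.ext e)
  refine card_le_four (a := 1) (b := u0) (c := y) (d := y * u0) fun x hx => ?_
  have e := eta_fin_three x.1
  have h5 := this _ _ _ _ _ _ _ _ _ (by rw [← e]; exact congrArg Subtype.val (h' x hx))
    (by rw [← e]; exact congrArg Subtype.val (h' _ (mul_mem hx hu)))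
    (by rw [← e]; exact congrArg Subtype.val (h' _ (mul_mem hx hy)))
  rw [← e] at h5
  exact h5.imp Subtype.ext (Or.imp Subtype.ext (Or.imp Subtype.ext Subtype.ext))

/-- the action of an element of the coset of `u` -/
noncomputable def al (k : Fin 3) (q v : M) : M := q * mu k v * q⁻¹

/-- the action of an element of the coset of `a b u a` -/
noncomputable def be (k : Fin 3) (q v : M) : M := q * sg (bt (mu k (sg v))) * q⁻¹

/-- the invariant elementary abelian subgroup -/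
abbrev InE (k : Fin 3) (v : M) : Prop := Nat.land v.v (Nat.shiftRight 56 (3 * (k.val - 1))) = 0

/-- facts on involutions outside the extraspecial group -/
abbrev B1 (k : Fin 3) (w : M) : Prop := ∀ q, q * mu k q * w = 1 →
  cnt (fun a => al k q a = a) = 16 ∧ (∃ a, al k q a = a ∧ a * a = Z) ∧
  ∀ q', be k q' (be k q' (e 0)) = al k q (e 0) → be k q' (be k q' (e 3)) = al k q (e 3) →
    be k q' (be k q' (e 1)) = al k q (e 1) → ∃ a, al k q a = a ∧
    (a * (be k q' a)⁻¹ = Z ∨ ∃ c, al k q c = c ∧ a * (be k q' a)⁻¹ * c ≠ c * (a * (be k q' a)⁻¹))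

/-- facts on involutions inside the extraspecial group -/
abbrev B3 (k : Fin 3) (q x s : M) : Prop := s ≠ 1 → s ≠ Z → s * s = 1 → s * x = x * s →
  ∀ c, al k q c = c → c * c = 1 → c * x = x * c → c * s = s * c → c ≠ 1 → c ≠ Z → c ≠ s →
    c ≠ s * Z → k ≠ 0 ∧ InE k s

/-- facts on involutions inside the extraspecial group -/
abbrev B2 (k : Fin 3) (w : M) : Prop := ∀ q, q * mu k q * w = 1 → ∀ x, x * x = 1 →
  B3 k q x (x * (al k q x)⁻¹)

theorem bad {k : Fin 3} {w : M} (hw : w = 1 ∨ w = Z) (h : ¬ (k = 0 ∧ w = 1)) : B1 k w ∧ B2 k w := by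
  have h1 : B1 0 Z ∧ B2 0 Z := by decide +kernel
  have h2 : B1 1 1 ∧ B2 1 1 := by decide +kernel
  have h3 : B1 1 Z ∧ B2 1 Z := by decide +kernel
  have h4 : B1 2 1 ∧ B2 2 1 := by decide +kernel
  have h5 : B1 2 Z ∧ B2 2 Z := by decide +kernel
  rcases hw with rfl | rfl <;> fin_cases k
  exacts [absurd ⟨rfl, rfl⟩ h, h2, h4, h1, h3, h5]

/-- the invariant elementary abelian subgroup -/
noncomputable def E0 (k : Fin 3) : Subgroup M := sub (InE k) (by revert k; decide +kernel)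

theorem bad3 : ∀ k, k ≠ 0 → cnt (InE k) = 16 ∧ InE k Z ∧ ∀ v, InE k v → InE k (sg v) ∧ InE k (bt v) ∧
    InE k (mu k v) ∧ (∀ q, InE k (q * v * q⁻¹)) ∧ (v ≠ 1 → v ≠ Z → ∀ x, InE k x → x = 1 ∨ x = Z ∨
      ∃ j < 7, x = sg^[j] v ∨ x = sg^[j] v * Z) := by decide +kernel

end CfsgLib.Held.X
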