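import Mathlib
import Cfsg.Agent.Lib.Held.X4
import Cfsg.Agent.Lib.LargeExtra.Sub
import Cfsg.Agent.Lib.Sz.Normalizers

/-!
# Extensions of the extraspecial group `2^{1+6}` by `SL(3, 2)` as centralisers of involutions
-/

set_option autoImplicit false
set_option Elab.async false
set_option maxRecDepth 100000
set_option synthInstance.maxSize 100000

namespace CfsgLib.Held.X

open Cfsg CfsgLib.W2 CfsgLib.W2.TG CfsgLib.ExtraTwo CfsgLib.LargeExtra Subgroup Matrix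

variable {G : Type*} [Group G] {Q : Subgroup G} {z : G} {ψ : centralizer ({z} : Set G) →* L}
  {k : Fin 3} {w : M}

theorem Fr.exists_mul (h : Hyp Q z ψ) (F : Fr Q z ψ k w) {x y : centralizer ({z} : Set G)}
    (e : ψ x = ψ y) : ∃ q, (x : G) = F.ξ q * y := by
  obtain ⟨q, hq⟩ := F.range.ge ((h.ker (x * y⁻¹)).1 (by rw [map_mul, map_inv, e, mul_inv_cancel]))
  exact ⟨q, by rw [hq]; simp⟩

theorem Fr.exists_conj (h : Hyp Q z ψ) (F : Fr Q z ψ k w) {y : G} (hz : y * z = z * y)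
    (h2 : y * y = 1) (hQ : y ∉ Q) : ∃ d, d * z = z * d ∧ ∃ q, d * y * d⁻¹ = F.ξ q * F.u ∧
      q * mu k q * w = 1 := by
  let y' : centralizer ({z} : Set G) := ⟨y, mem_cent.2 hz⟩
  obtain ⟨d0, hd⟩ := invol_L (g := ψ y') (by rw [← map_mul, show y' * y' = 1 from Subtype.ext h2,
    map_one]) fun e => hQ ((h.ker y').1 e)
  obtain ⟨d, rfl⟩ := h.surj d0
  obtain ⟨q, hq⟩ := F.exists_mul h (x := d * y' * d⁻¹) (y := F.u)
    (by rw [map_mul, map_mul, map_inv, hd, F.ψu, mul_inv_cancel_right])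
  refine ⟨d, mem_cent.1 d.2, q, hq, F.inj ?_⟩
  rw [map_mul, map_mul, ← F.cu, ← F.uu, map_one]
  calc _ = F.ξ q * F.u * (F.ξ q * F.u) := by group
    _ = d * (y * y) * (d : G)⁻¹ := by rw [← hq]; simp only [y', Subgroup.coe_mul, coe_inv]; group
    _ = 1 := by rw [h2]; group

theorem Fr.act_al (F : Fr Q z ψ k w) (q v : M) :
    F.ξ q * F.u * F.ξ v * (F.ξ q * F.u)⁻¹ = F.ξ (al k q v) := by
  rw [al, map_mul, map_mul, map_inv, ← F.cu]; group

theorem Fr.al_iff (F : Fr Q z ψ k w) (q v : M) :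
    al k q v = v ↔ F.ξ v * (F.ξ q * F.u) = F.ξ q * F.u * F.ξ v := by
  rw [← F.inj.eq_iff, ← F.act_al, mul_inv_eq_iff_eq_mul, eq_comm]

theorem Fr.mem (F : Fr Q z ψ k w) (v : M) : F.ξ v ∈ Q := F.range.le ⟨v, rfl⟩

theorem Fr.out [Finite G] (h : Hyp Q z ψ) (F : Fr Q z ψ k w) (hb : ¬ (k = 0 ∧ w = 1)) {g : G}
    (hc : g * z * g⁻¹ * z = z * (g * z * g⁻¹)) : g * z * g⁻¹ ∈ Q := by
  have sq : ∀ g : G, g * z * g⁻¹ * (g * z * g⁻¹) = 1 := fun g => by
    rw [conj_mul, h.pre.es.mul_self]; group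
  by_contra hQ
  obtain ⟨d, hd, q, hq, hq'⟩ := F.exists_conj h hc (sq g) hQ
  wlog e : g * z * g⁻¹ = F.ξ q * F.u generalizing g d
  · have e1 : d * g * z * (d * g)⁻¹ = d * (g * z * g⁻¹) * d⁻¹ := by group
    refine this (g := d * g) ?_ (fun hm => hQ ?_) 1 (by simp) (by rw [e1, hq]; simp) (e1.trans hq)
    · rw [e1]
      exact ((Commute.mul_left hd hc).mul_left (Commute.inv_left hd)).eq
    · simpa [mul_assoc] using h.pre.norm d⁻¹ (Commute.inv_left hd).eq _ hm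
  have h1 := h.pre.conj g
  have hz : g⁻¹ * z * g ∉ Q := fun hm => hQ (by
    simpa using mem_map_conj.1 (h.pre.mem_conj (by rw [h.card]; norm_num) (g := g⁻¹)
      (by simpa using hm)))
  obtain ⟨β, hβ, βz, β2⟩ : ∃ β ∈ Q.map (MulAut.conj g).toMonoidHom, β * z = z * β ∧
      β * β = g * z * g⁻¹ := by
    obtain ⟨c, hc', p, hp, hp'⟩ := F.exists_conj h (y := g⁻¹ * z * g) (by
      calc _ = g⁻¹ * (z * (g * z * g⁻¹)) * g := by group
        _ = _ := by rw [← hc]; group) (by simpa using sq g⁻¹) hz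
    obtain ⟨-, ⟨a, a1, a2⟩, -⟩ := (bad F.hw hb).1 p hp'
    rw [F.al_iff, ← hp] at a1
    refine ⟨g * (c⁻¹ * F.ξ a * c) * g⁻¹, ⟨_, by
      simpa using h.pre.norm c⁻¹ (Commute.inv_left hc').eq _ (F.mem a), rfl⟩, ?_, ?_⟩
    · calc _ = g * c⁻¹ * (F.ξ a * (c * (g⁻¹ * z * g) * c⁻¹)) * c * g⁻¹ := by group
        _ = _ := by rw [a1]; group
    · calc _ = g * (c⁻¹ * (F.ξ a * F.ξ a * c)) * g⁻¹ := by group
        _ = _ := by rw [← map_mul, a2, F.hz, ← hc']; group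
  wlog e2 : ψ ⟨β, mem_cent.2 βz⟩ = a0 * b0 * u0 * a0 generalizing β
  · refine this β⁻¹ (inv_mem hβ) (Commute.inv_left βz).eq (by
      rw [← _root_.mul_inv_rev, β2, inv_eq_of_mul_eq_one_right (sq g)]) ?_
    have e3 : ψ ⟨β, mem_cent.2 βz⟩ * ψ ⟨β, mem_cent.2 βz⟩ = u0 := by
      let q' : centralizer ({z} : Set G) := ⟨F.ξ q, h.pre.le_cent (F.mem q)⟩
      rw [← map_mul, show (⟨β, mem_cent.2 βz⟩ * ⟨β, mem_cent.2 βz⟩ : centralizer ({z} : Set G)) =
        q' * F.u from Subtype.ext (β2.trans e), map_mul, (h.ker q').2 (F.mem q), one_mul, F.ψu]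
    rw [← (root_L e3).resolve_left e2, ← map_inv]
    rfl
  obtain ⟨q', hq2⟩ := F.exists_mul h (x := ⟨β, mem_cent.2 βz⟩) (y := F.a * F.b * F.u * F.a)
    (by simp only [e2, map_mul, F.ψa, F.ψb, F.ψu])
  have act : ∀ v, β * F.ξ v * β⁻¹ = F.ξ (be k q' v) := fun v => by
    rw [be, map_mul, map_mul, map_inv, ← F.ca, ← F.cb, ← F.cu, ← F.ca, show β = _ from hq2]
    simp only [Subgroup.coe_mul]; group
  have act2 : ∀ v, be k q' (be k q' v) = al k q v := fun v => F.inj (by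
    rw [← act, ← act, ← F.act_al, ← e, ← β2]; group)
  obtain ⟨a, a1, a2⟩ := ((bad F.hw hb).1 q hq').2.2 q' (act2 _) (act2 _) (act2 _)
  have hzP : z ∉ Q.map (MulAut.conj g).toMonoidHom := fun hm => hz (mem_map_conj.1 hm)
  have hκ : F.ξ (a * (be k q' a)⁻¹) ∈ Q.map (MulAut.conj g).toMonoidHom := by
    rw [F.al_iff, ← e] at a1
    have := mul_mem (h1.norm _ a1 _ hβ) (inv_mem hβ)
    rwa [map_mul, map_inv, ← act, show F.ξ a * (β * F.ξ a * β⁻¹)⁻¹ =
      F.ξ a * β * (F.ξ a)⁻¹ * β⁻¹ by group]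
  rcases a2 with a2 | ⟨c, c1, c2⟩
  · exact hzP (by rwa [a2, F.hz] at hκ)
  · rw [F.al_iff, ← e] at c1
    have e4 := h.pre.es.conj_of_ne (F.mem _) (F.mem c) fun e => c2 (F.inj (by
      rw [map_mul, map_mul _ c, e]))
    have := mul_mem (inv_mem hκ) (h1.norm _ c1 _ hκ)
    exact hzP (by rwa [e4, inv_mul_cancel_left] at this)

theorem Fr.norm_E [Finite G] (h : Hyp Q z ψ) (F : Fr Q z ψ k w) (hk : k ≠ 0) {d : G}
    (hd : d * z = z * d) : d ∈ normalizer ((E0 k).map F.ξ : Set G) := by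
  obtain ⟨-, -, hE⟩ := bad3 k hk
  let S := (normalizer ((E0 k).map F.ξ : Set G)).subgroupOf (centralizer ({z} : Set G))
  have h1 : ψ.ker ≤ S := fun x hx => Core.mem_normalizer_of_forall_conj_mem (by
    obtain ⟨q, e⟩ := F.range.ge ((h.ker x).1 hx)
    rintro _ ⟨v, hv, rfl⟩
    exact ⟨_, (hE v hv).2.2.2.1 q, by rw [map_mul, map_mul, map_inv, e]; rfl⟩)
  have h2 : S.map ψ = ⊤ := top_le_iff.1 (closure_L.ge.trans ((closure_le _).2 (by
    rintro _ (rfl | rfl | rfl)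
    · refine ⟨F.a, Core.mem_normalizer_of_forall_conj_mem ?_, F.ψa⟩
      rintro _ ⟨v, hv, rfl⟩; exact ⟨_, (hE v hv).1, (F.ca v).symm⟩
    · refine ⟨F.b, Core.mem_normalizer_of_forall_conj_mem ?_, F.ψb⟩
      rintro _ ⟨v, hv, rfl⟩; exact ⟨_, (hE v hv).2.1, (F.cb v).symm⟩
    · refine ⟨F.u, Core.mem_normalizer_of_forall_conj_mem ?_, F.ψu⟩
      rintro _ ⟨v, hv, rfl⟩; exact ⟨_, (hE v hv).2.2.1, (F.cu v).symm⟩)))
  have h3 := comap_map_eq_self h1
  rw [h2, comap_top] at h3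
  exact h3.le (mem_top (⟨d, mem_cent.2 hd⟩ : centralizer ({z} : Set G)))

theorem Fr.ins [Finite G] (h : Hyp Q z ψ) (F : Fr Q z ψ k w) (hb : ¬ (k = 0 ∧ w = 1)) {g : G}
    (ht : g * z * g⁻¹ ∈ Q) (hne : g * z * g⁻¹ ≠ z) : k ≠ 0 ∧ g * z * g⁻¹ ∈ (E0 k).map F.ξ := by
  have p := h.pre.pair (by rw [h.card]; norm_num) ht hne
  have hP := (card_map_conj Q g).trans h.card
  generalize Q.map (MulAut.conj g).toMonoidHom = P at p hP
  generalize g * z * g⁻¹ = t at p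
  have h1 := p.card_E_mul_card_map ψ h.ker
  have h2 := four_L fun _ => p.map_mul_self ψ h.ker
  have hE : 16 ≤ Nat.card (Q ⊓ P : Subgroup G) := by rw [hP] at h1; nlinarith
  have hV : Nat.card (closure ({z, t} : Set G)) ≤ 4 := card_le_four fun _ => p.mem_V.1
  obtain ⟨c, hc, hcV⟩ : ∃ c ∈ Q ⊓ P, c ∉ closure ({z, t} : Set G) := by
    by_contra! hn
    have := card_le_of_le hn
    omega
  have h3 := (SylT.card_sup_le (H := closure ({z, t} : Set G)) (y := c)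
    (by rw [p.E_sq hc]; exact one_mem _) fun a ha => by
      rwa [p.E_comm hc (p.V_le_E ha), mul_inv_cancel_right]).2
  have h4 := card_mul_card_centralizer p.h1.es (P := closure ({z, t} : Set G) ⊔ zpowers c)
    ((sup_le p.V_le_E (zpowers_le.2 hc)).trans inf_le_right) (mem_sup_left (subset_closure (by simp)))
  have h5 := card_mul_card_centralizer p.h1.es (P := Q ⊓ P) inf_le_right ⟨p.tQ, p.h1.es.mem⟩
  obtain ⟨r, hr, rz, rc, r2, x, hx, hrx⟩ : ∃ r ∈ P, r * z = z * r ∧ r * c = c * r ∧ r * r = 1 ∧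
      ∃ x ∈ Q ⊓ P, x * r ≠ r * x := by
    obtain ⟨r, hr, hn⟩ : ∃ r ∈ P ⊓ centralizer ((closure ({z, t} : Set G) ⊔ zpowers c :
        Subgroup G) : Set G), r ∉ P ⊓ centralizer ((Q ⊓ P : Subgroup G) : Set G) := by
      by_contra! hn
      have := card_le_of_le hn
      rw [hP] at h4 h5
      nlinarith
    obtain ⟨x, hx, hrx⟩ : ∃ x ∈ Q ⊓ P, x * r ≠ r * x := by
      by_contra! hn'
      exact hn ⟨hr.1, hn'⟩
    have rz : r * z = z * r := (hr.2 z (mem_sup_left (subset_closure (by simp)))).symm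
    have rc : r * c = c * r := (hr.2 c (mem_sup_right (mem_zpowers c))).symm
    rcases p.h1.es.sq hr.1 with e | e
    · exact ⟨r, hr.1, rz, rc, e, x, hx, hrx⟩
    · refine ⟨r * x, mul_mem hr.1 hx.2, (Commute.mul_left rz (p.h0.es.comm_z x hx.1)).eq,
        (Commute.mul_left rc (p.E_comm hx hc)).eq, ?_, x, hx, fun e => hrx ?_⟩
      · rw [mul_assoc, ← mul_assoc x, p.h1.es.comm_of_ne hx.2 hr.1 hrx, mul_assoc, mul_assoc,
          p.E_sq hx, mul_one, ← mul_assoc, p.h1.es.comm_z r hr.1, mul_assoc, e, p.h1.es.mul_self]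
      · exact mul_right_cancel (b := x) (by rw [mul_assoc, e])
  obtain ⟨d, hd, q, hq, hq'⟩ := F.exists_conj h rz r2 fun hm => hrx (p.E_comm hx ⟨hm, hr⟩)
  obtain ⟨x', ex⟩ := F.range.ge (h.pre.norm d hd x hx.1)
  obtain ⟨c', ec⟩ := F.range.ge (h.pre.norm d hd c hc.1)
  have et : F.ξ (x' * (al k q x')⁻¹) = d * t * d⁻¹ := by
    rw [map_mul, map_inv, ← F.act_al, ← hq, ex]
    calc _ = d * (x * r * (r * x)⁻¹) * d⁻¹ := by group
      _ = _ := by rw [p.h1.es.comm_of_ne hx.2 hr hrx, mul_inv_cancel_right]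
  have ez : F.ξ Z = d * z * d⁻¹ := F.hz.trans (conj_eq_of_comm hd).symm
  have e1 : F.ξ 1 = d * 1 * d⁻¹ := by simp
  have tE : t ∈ Q ⊓ P := ⟨p.tQ, p.h1.es.mem⟩
  have key : ∀ {u v : M} {a b : G}, F.ξ u = d * a * d⁻¹ → F.ξ v = d * b * d⁻¹ → (u = v ↔ a = b) :=
    fun e e' => by rw [← F.inj.eq_iff, e, e', mul_left_inj, mul_right_inj]
  have mu' : ∀ {u v : M} {a b : G}, F.ξ u = d * a * d⁻¹ → F.ξ v = d * b * d⁻¹ →
      F.ξ (u * v) = d * (a * b) * d⁻¹ := fun e e' => by rw [map_mul, e, e', conj_mul]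
  obtain ⟨hk, hs⟩ := (bad F.hw hb).2 q hq' x' ((key (mu' ex ex) e1).2 (p.E_sq hx))
    ((key et e1).not.2 p.t_ne_one) ((key et ez).not.2 p.ne)
    ((key (mu' et et) e1).2 (p.E_sq tE)) ((key (mu' et ex) (mu' ex et)).2 (p.E_comm tE hx)) c'
    (by rw [F.al_iff, ← hq, ec, conj_mul, conj_mul, rc]) ((key (mu' ec ec) e1).2 (p.E_sq hc))
    ((key (mu' ec ex) (mu' ex ec)).2 (p.E_comm hc hx))
    ((key (mu' ec et) (mu' et ec)).2 (p.E_comm hc tE))
    ((key ec e1).not.2 fun e => hcV (p.mem_V.2 (by simp [e])))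
    ((key ec ez).not.2 fun e => hcV (p.mem_V.2 (by simp [e])))
    ((key ec et).not.2 fun e => hcV (p.mem_V.2 (by simp [e])))
    ((key ec (mu' et ez)).not.2 fun e => hcV (p.mem_V.2 (by simp [e])))
  exact ⟨hk, (mem_normalizer_iff.1 (F.norm_E h hk hd) t).2 ⟨_, hs, et⟩⟩

/-- If the involution is not isolated, its centraliser is that of a transvection of `SL(5, 2)`,
or its conjugates in its centraliser are the involutions of a subgroup of order 16. -/
theorem Hyp.iso_or [Finite G] (h : Hyp Q z ψ) (hi : ¬ IsIsolatedInvolution z) :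
    Nonempty (centralizer ({z} : Set G) ≃* centralizer ({s0} : Set SL5)) ∨ ∃ E ≤ Q,
      Nat.card E = 16 ∧ ∀ x, IsConj z x ∧ x * z = z * x ↔ x ∈ E ∧ x ≠ 1 := by
  obtain ⟨k, w, ⟨F⟩⟩ := h.exists_fr
  by_cases hb : k = 0 ∧ w = 1
  · obtain ⟨rfl, rfl⟩ := hb
    exact Or.inl (F.iso h)
  obtain ⟨g, hg, hne⟩ : ∃ g : G, Commute z (g * z * g⁻¹) ∧ g * z * g⁻¹ ≠ z := by
    by_contra! hn
    exact hi ⟨h.pre.es.orderOf_eq, hn⟩
  obtain ⟨hk, s, hs, e⟩ := F.ins h hb (F.out h hb hg.eq.symm) hne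
  obtain ⟨h1, h2, h3⟩ := bad3 k hk
  refine Or.inr ⟨(E0 k).map F.ξ, (map_le_range _ _).trans F.range.le,
    (card_map_of_injective F.inj).trans ((card_sub _ _).trans h1), fun x => ⟨?_, ?_⟩⟩
  · rintro ⟨hx, hc⟩
    obtain ⟨g, rfl⟩ := isConj_iff.1 hx
    refine ⟨?_, fun e => h.pre.es.ne_one (by simpa using e)⟩
    by_cases e : g * z * g⁻¹ = z
    · exact ⟨Z, h2, F.hz.trans e.symm⟩
    · exact (F.ins h hb (F.out h hb hc) e).2
  · rintro ⟨⟨v, hv, rfl⟩, hx⟩
    refine ⟨?_, h.pre.es.comm_z _ (F.mem v)⟩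
    have h4 : ∀ j, IsConj z (F.ξ (sg^[j] s)) := fun j => by
      induction j with
      | zero => exact isConj_iff.2 ⟨g, e.symm⟩
      | succ j ih => exact ih.trans (isConj_iff.2 ⟨_, by rw [F.ca, Function.iterate_succ_apply']⟩)
    rcases (h3 s hs).2.2.2.2 (fun e' => h.pre.es.ne_one (by simpa [e'] using e.symm))
      (fun e' => hne (by rw [← e, e', F.hz])) v hv with rfl | rfl | ⟨j, -, rfl | rfl⟩
    · exact absurd (map_one _) hx
    · rw [F.hz]
    · exact h4 j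
    · rw [map_mul, F.hz] at hx ⊢
      refine (h4 j).trans (isConj_mul_z h.pre.es (F.mem _) (fun e' => ?_) fun e' => ?_)
      · exact h.pre.es.ne_one (isConj_one_left.1 (e' ▸ h4 j))
      · exact hx (by rw [e', h.pre.es.mul_self])

/-- An involution outside `Q` that centralises more than 16 elements of `Q` forces the
centraliser of a transvection. -/
theorem Hyp.iso_of_card [Finite G] (h : Hyp Q z ψ) {y : G} (hz : y * z = z * y) (h2 : y * y = 1)
    (hQ : y ∉ Q) (hc : Nat.card (Q ⊓ centralizer ({y} : Set G) : Subgroup G) ≠ 16) :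
    Nonempty (centralizer ({z} : Set G) ≃* centralizer ({s0} : Set SL5)) := by
  obtain ⟨k, w, ⟨F⟩⟩ := h.exists_fr
  by_cases hb : k = 0 ∧ w = 1
  · obtain ⟨rfl, rfl⟩ := hb
    exact F.iso h
  obtain ⟨d, hd, q, hq, hq'⟩ := F.exists_conj h hz h2 hQ
  refine absurd ?_ hc
  rw [← ((bad F.hw hb).1 q hq').1, ← card_map_conj _ d, ← card_subgroup
    ((centralizer ({F.ξ q * F.u} : Set G)).comap F.ξ) _ fun v => mem_cent.trans (F.al_iff q v).symm,
    ← card_map_of_injective F.inj, map_comap_eq, F.range, ← hq]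
  congr 2
  ext x
  rw [mem_map_conj, mem_inf, mem_inf, mem_cent, mem_cent]
  refine and_congr ?_ ⟨fun e => ?_, fun e => ?_⟩
  · simpa using (mem_normalizer_iff.1 (inv_mem (h.pre.mem_normalizer hd)) x).symm
  · calc _ = d * (d⁻¹ * x * d * y) * d⁻¹ := by group
      _ = _ := by rw [e]; group
  · calc _ = d⁻¹ * (x * (d * y * d⁻¹)) * d := by group
      _ = _ := by rw [e]; group

theorem Hyp.iso_He [Finite G] [IsSimpleGroup G] (h : Hyp Q z ψ) (hG : Nat.card G = 4030387200) :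
    Nonempty (G ≃* Spor.He) := by
  have hz := h.pre.es.orderOf_eq
  obtain ⟨x, -, y, -, hxy⟩ := h.pre.es.nonab
  rcases h.iso_or (ZStar.not_isolated_of_simple (fun hc => hxy (hc.is_comm.comm x y)) z) with
    ⟨⟨e⟩⟩ | ⟨E, hE, h16, hf⟩
  · rcases classify_simple rfl hz e with ⟨⟨f⟩⟩ | ⟨⟨f⟩⟩ | f
    · exact absurd (hG.symm.trans ((Nat.card_congr f.toEquiv).trans card_SL5)) (by decide)
    · exact absurd (hG.symm.trans ((Nat.card_congr f.toEquiv).trans Mathieu.card_M24)) (by decide)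
    · exact f
  classical
  have := Fintype.ofFinite G
  let _ : MulAction E {x // IsConj z x} :=
    { smul := fun e x => ⟨e * x * (e : G)⁻¹, x.2.trans (isConj_iff.2 ⟨_, rfl⟩)⟩
      one_smul := fun x => Subtype.ext (show (1 : G) * x * 1⁻¹ = x by simp)
      mul_smul := fun a b x => Subtype.ext
        (show (a : G) * b * x * ((a : G) * b)⁻¹ = a * (b * x * (b : G)⁻¹) * (a : G)⁻¹ by group) }
  have h1 : ∀ e : E, Fintype.card (MulAction.fixedBy {x // IsConj z x} e) =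
      15 + if e = 1 then 187410 else 0 := fun e => by
    rw [← Nat.card_eq_fintype_card]
    split_ifs with he
    · have := Sz.ncard_conj_mem z Set.univ
      simp only [Set.mem_univ, Set.ofPred_true, Set.ncard_univ, true_and, hG, h.card_cent] at this
      rw [he, MulAction.fixedBy_one_eq_univ, Nat.card_congr (Equiv.Set.univ _)]
      exact Nat.eq_of_mul_eq_mul_left (by norm_num) this.symm
    · obtain ⟨g, hg⟩ := isConj_iff.1 ((hf e).2 ⟨e.2, fun e' => he (Subtype.ext e')⟩).1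
      have : Nat.card {x : E // x ≠ 1} = 15 := by
        rw [Nat.card_eq_fintype_card, Fintype.card_subtype_compl, ← Nat.card_eq_fintype_card, h16]
        simp
      rw [add_zero, ← this]
      have h0 := fun x : {x : E // x ≠ 1} => (hf x.1).2 ⟨x.1.2, fun e' => x.2 (Subtype.ext e')⟩
      let f : {x : E // x ≠ 1} → MulAction.fixedBy {x // IsConj z x} e := fun x =>
        ⟨⟨g * x.1 * g⁻¹, (h0 x).1.trans (isConj_iff.2 ⟨_, rfl⟩)⟩, Subtype.ext (by
          show (e : G) * (g * x.1 * g⁻¹) * (e : G)⁻¹ = g * x.1 * g⁻¹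
          rw [mul_inv_eq_iff_eq_mul, ← hg, conj_mul, conj_mul, (h0 x).2])⟩
      refine (Nat.card_eq_of_bijective f ⟨fun x y e => Subtype.ext (Subtype.ext
        (mul_left_cancel (mul_right_cancel (congrArg (fun x => x.1.1) e)))), fun x => ?_⟩).symm
      have h2 : (e : G) * x.1.1 * (e : G)⁻¹ = x.1.1 := congrArg Subtype.val x.2
      have h3 := (hf (g⁻¹ * x.1.1 * g)).1 ⟨x.1.2.trans (isConj_iff.2 ⟨g⁻¹, by rw [inv_inv]⟩), by
        calc _ = g⁻¹ * (x.1.1 * (g * z * g⁻¹)) * g := by group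
          _ = _ := by rw [hg, ← mul_inv_eq_iff_eq_mul.1 h2, ← hg]; group⟩
      exact ⟨⟨⟨_, h3.1⟩, fun e => h3.2 (congrArg Subtype.val e)⟩,
        Subtype.ext (Subtype.ext (show g * (g⁻¹ * x.1.1 * g) * g⁻¹ = x.1.1 by group))⟩
  have := Fintype.ofFinite (MulAction.orbitRel.Quotient E {x // IsConj z x})
  have h2 := MulAction.sum_card_fixedBy_eq_card_orbits_mul_card_group E {x // IsConj z x}
  simp only [h1, Finset.sum_add_distrib, Finset.sum_const, Finset.card_univ, Finset.sum_ite_eq',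
    Finset.mem_univ, if_true, ← Nat.card_eq_fintype_card (α := E), h16, smul_eq_mul] at h2
  omega

end CfsgLib.Held.X
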